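import Groth.Agent.Stk19b.Count.Level
import Groth.Agent.Stk19b.QuotTriv
import Groth.Prelude.Def_GalTw2

/-! Points of twisted forms: the twisted action of Galois, and rational points over a finite field. -/

set_option autoImplicit false
set_option linter.style.haveILetI false
set_option linter.unusedSectionVars false
set_option backward.isDefEq.respectTransparency false
set_option backward.isDefEq.respectTransparency.types false

universe u

open CategoryTheory CategoryTheory.Limits AlgebraicGeometry MonoidalCategory CartesianMonoidalCategory MonObj GrpObj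

namespace Groth.Agent.Stk19b.Count

open QuotTriv GalTw

variable {k : Type u} [Field k] {K : Type u} [Field K] [Algebra k K] {G X Y : Over (Spec (CommRingCat.of k))}

/-- The point of a section of a base change. -/
noncomputable def ptOfSec (s : 𝟙_ (Over (Spec (CommRingCat.of K))) ⟶ bcK K X) : SGA7.Pts K X :=
  Over.homMk (s.left ≫ pullback.fst X.hom (SGA7.pt (K := k) K).hom) (by
    rw [Category.assoc, pullback.condition, ← Category.assoc]
    have h := Over.w s
    change s.left ≫ pullback.snd X.hom (SGA7.pt (K := k) K).hom = 𝟙 _ at h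
    rw [h]
    exact Category.id_comp _)

theorem secOfPt_ptOfSec (s : 𝟙_ (Over (Spec (CommRingCat.of K))) ⟶ bcK K X) : secOfPt K (ptOfSec s) = s := by
  apply Over.OverMorphism.ext
  apply pullback.hom_ext
  · rw [secOfPt_left, pullback.lift_fst]; rfl
  · rw [secOfPt_left, pullback.lift_snd]
    exact (Over.w s).symm

theorem ptOfSec_secOfPt (x : SGA7.Pts K X) : ptOfSec (secOfPt K x) = x := by
  apply Over.OverMorphism.ext
  show (secOfPt K x).left ≫ pullback.fst _ _ = x.left
  rw [secOfPt_left, pullback.lift_fst]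

/-- Sections and points. -/
noncomputable def secEquiv : SGA7.Pts K X ≃ (𝟙_ (Over (Spec (CommRingCat.of K))) ⟶ bcK K X) where
  toFun := secOfPt K
  invFun := ptOfSec
  left_inv := ptOfSec_secOfPt
  right_inv := secOfPt_ptOfSec

/-- The map of points of a form. -/
noncomputable def formPts (φ : bcK K Y ≅ bcK K X) : SGA7.Pts K Y ≃ SGA7.Pts K X :=
  secEquiv.trans ((φ.homToEquiv).trans secEquiv.symm)

theorem secOfPt_formPts (φ : bcK K Y ≅ bcK K X) (y : SGA7.Pts K Y) :
    secOfPt K (formPts φ y) = secOfPt K y ≫ φ.hom := secOfPt_ptOfSec _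

theorem secOfPt_smul (σ : K ≃ₐ[k] K) (x : SGA7.Pts K X) :
    (secOfPt K (σ • x)).left = specMap K σ ≫ (secOfPt K x).left ≫ galMap K σ⁻¹ X := by
  apply pullback.hom_ext
  · rw [secOfPt_left, pullback.lift_fst, Category.assoc, Category.assoc, galMap_fst, secOfPt_left, pullback.lift_fst]
    rfl
  · rw [secOfPt_left, pullback.lift_snd, Category.assoc, Category.assoc, galMap_snd, secOfPt_left,
      pullback.lift_snd_assoc]
    show _ = specMap K σ ≫ 𝟙 _ ≫ specMap K σ⁻¹
    erw [Category.id_comp]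
    rw [← specMap_mul, mul_inv_cancel, specMap_one]
    rfl

theorem secOfPt_formPts_smul (φ : bcK K Y ≅ bcK K X) (σ : K ≃ₐ[k] K) (y : SGA7.Pts K Y) :
    secOfPt K (formPts φ (σ • y)) = secOfPt K (σ • formPts φ y) ≫ (cocycle φ σ).hom := by
  have hφ : φ.hom = twHom σ φ.hom ≫ (cocycle φ σ).hom := by
    rw [cocycle_apply_hom, ← Category.assoc, twIso_inv, ← twHom_comp, φ.hom_inv_id, twHom_id, Category.id_comp]
  rw [secOfPt_formPts]
  conv_lhs => rw [hφ]
  rw [← Category.assoc]
  congr 1
  apply Over.OverMorphism.ext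
  rw [Over.comp_left, secOfPt_smul, twHom_left, secOfPt_smul, secOfPt_formPts, Over.comp_left]
  simp [galMap_mul_assoc]

theorem secOfPt_actK [GrpObj G] (aX : AlgGrp.Action G X) (g : SGA7.Pts K G) (x : SGA7.Pts K X) :
    secOfPt K x ≫ actK K aX g = secOfPt K (smulPt aX g x) := by
  apply Over.OverMorphism.ext
  apply pullback.hom_ext
  · rw [Over.comp_left, Category.assoc]
    have e : (lift x (𝟙 (SGA7.pt (K := k) K)) ≫ lift (snd X _ ≫ g) (fst X _) ≫ aX.act) = smulPt aX g x := by
      rw [← Category.assoc, comp_lift, ← Category.assoc, lift_snd, lift_fst, Category.id_comp]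
    show (secOfPt K x).left ≫ pullback.lift _ _ _ ≫ pullback.fst _ _ = _
    rw [pullback.lift_fst, secOfPt_left K (smulPt aX g x), pullback.lift_fst]
    exact congrArg (fun t : SGA7.pt (K := k) K ⟶ X => t.left) e
  · show ((secOfPt K x).left ≫ pullback.lift _ _ _) ≫ pullback.snd _ _ = _
    rw [Category.assoc, pullback.lift_snd, secOfPt_left, secOfPt_left, pullback.lift_snd, pullback.lift_snd]

/-- The twisted action on the points of a twist through an action. -/
theorem formPts_smul_act [GrpObj G] (aX : AlgGrp.Action G X) (z : GpH1.OneCocycle (K ≃ₐ[k] K) (SGA7.Pts K G))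
    (φ : bcK K Y ≅ bcK K X) (hφ : ∀ σ, (cocycle φ σ).hom = actK K aX (z σ)) (σ : K ≃ₐ[k] K) (y : SGA7.Pts K Y) :
    formPts φ (σ • y) = smulPt aX (z σ) (σ • formPts φ y) := by
  apply secEquiv.injective
  show secOfPt K _ = secOfPt K _
  rw [secOfPt_formPts_smul, hφ, secOfPt_actK]

section Group

set_option synthInstance.maxHeartbeats 400000

variable [GrpObj G]

theorem secOfPt_eq (g : SGA7.Pts K G) :
    secOfPt K g = secOfPt K (𝟙 (SGA7.pt (K := k) K)) ≫ (Over.pullback (SGA7.pt (K := k) K).hom).map g := by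
  apply Over.OverMorphism.ext
  apply pullback.hom_ext <;> simp
  exact (Category.id_comp _).symm

theorem secOfPt_mul (g h : SGA7.Pts K G) : secOfPt K (g * h) = secOfPt K g * secOfPt K h := by
  rw [secOfPt_eq, Functor.map_mul, MonObj.comp_mul, ← secOfPt_eq, ← secOfPt_eq]

theorem secOfPt_conj (g x : SGA7.Pts K G) :
    secOfPt K x ≫ innK K g = secOfPt K (g * x * g⁻¹) := by
  rw [secOfPt_mul, secOfPt_mul, innK, AGF.conjBy, MonObj.comp_mul, MonObj.comp_mul, GrpObj.comp_inv,
    Category.comp_id, ← Category.assoc, toUnit_unique (secOfPt K x ≫ toUnit _) (𝟙 _), Category.id_comp]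
  congr 1
  refine (eq_inv_of_mul_eq_one_left ?_).symm
  have h1 : secOfPt K (1 : SGA7.Pts K G) = 1 :=
    mul_eq_left.1 ((secOfPt_mul 1 1).symm.trans (by rw [_root_.one_mul]))
  rw [← secOfPt_mul, inv_mul_cancel, h1]

/-- The twisted action on the points of an inner form. -/
theorem formPts_smul_inn (z : GpH1.OneCocycle (K ≃ₐ[k] K) (SGA7.Pts K G))
    (φ : bcK K Y ≅ bcK K G) (hφ : ∀ σ, (cocycle φ σ).hom = innK K (z σ)) (σ : K ≃ₐ[k] K) (y : SGA7.Pts K Y) :
    formPts φ (σ • y) = z σ * σ • formPts φ y * (z σ)⁻¹ := by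
  apply secEquiv.injective
  show secOfPt K _ = secOfPt K _
  rw [secOfPt_formPts_smul, hφ, secOfPt_conj]

end Group

section Finite

variable [Finite k] (π : K ≃ₐ[k] K) (hπ : ∀ x : K, π x = x ^ Nat.card k)
include hπ

theorem frobenius_smul (x : SGA7.Pts K X) : π • x = frM k k K ≫ x := by
  rw [GalTw.pts_smul_def]
  congr 1
  apply Over.OverMorphism.ext
  rw [frM]
  show Spec.map _ = Spec.map _
  congr 1
  ext a
  show π a = frobHom k K a
  rw [hπ, frobHom_apply]

/-- Rational points are the points fixed by Frobenius. -/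
theorem card_pts_eq_fixed (Y : Over (Spec (CommRingCat.of k))) :
    Nat.card (SGA7.Pts k Y) = Nat.card {y : SGA7.Pts K Y // π • y = y} := by
  refine Nat.card_congr (Equiv.ofBijective
    (fun p => ⟨incl k k K ≫ p, by rw [frobenius_smul π hπ, ← Category.assoc, frM_inclBase]⟩) ⟨?_, ?_⟩)
  · intro p q h
    exact cancel_pt k (incl k k K) p q (congrArg Subtype.val h)
  · rintro ⟨y, hy⟩
    obtain ⟨p, hp, -⟩ := exists_fac_of_frob k y (SGA7.specAut π) (π : K →+* K) hπ rfl
      hy (incl k k K) (incl_left k k K)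
    exact ⟨p, Subtype.ext hp⟩

theorem card_pts_actTwist [GrpObj G] (aX : AlgGrp.Action G X) (z : GpH1.OneCocycle (K ≃ₐ[k] K) (SGA7.Pts K G))
    (hY : IsActTwist K aX z Y) :
    Nat.card (SGA7.Pts k Y) = Nat.card {x : SGA7.Pts K X // smulPt aX (z π) (frM k k K ≫ x) = x} := by
  obtain ⟨φ, hφ⟩ := hY
  rw [card_pts_eq_fixed π hπ Y]
  refine Nat.card_congr ((formPts φ).subtypeEquiv fun y => ?_)
  rw [← frobenius_smul π hπ, ← formPts_smul_act aX z φ hφ]
  exact (formPts φ).injective.eq_iff.symm

theorem card_pts_innTwist [GrpObj G] [GrpObj Y] (z : GpH1.OneCocycle (K ≃ₐ[k] K) (SGA7.Pts K G))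
    (hY : IsInnTwist K G z Y) :
    Nat.card (SGA7.Pts k Y) = Nat.card {g : SGA7.Pts K G // z π * (frM k k K ≫ g) * (z π)⁻¹ = g} := by
  obtain ⟨φ, -, hφ⟩ := hY
  rw [card_pts_eq_fixed π hπ Y]
  refine Nat.card_congr ((formPts φ).subtypeEquiv fun y => ?_)
  rw [← frobenius_smul π hπ, ← formPts_smul_inn z φ hφ]
  exact (formPts φ).injective.eq_iff.symm

end Finite

end Groth.Agent.Stk19b.Count
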