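import Groth.Agent.Stk19b.Count.Galois
import Groth.Agent.Stk19b.QuotTriv

/-! Finiteness of points over finite fields; the covering of a finite field by an extension. -/

set_option autoImplicit false
set_option linter.style.haveILetI false
set_option linter.unusedSectionVars false
set_option backward.isDefEq.respectTransparency false
set_option backward.isDefEq.respectTransparency.types false

universe u

open CategoryTheory CategoryTheory.Limits AlgebraicGeometry

namespace Groth.Agent.Stk19b.Count

variable {k : Type u} [Field k] {E : Type u} [Field E] [Algebra k E] [Finite E]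

theorem finite_pts_affine {U : Scheme.{u}} [IsAffine U] (g : U ⟶ Spec (CommRingCat.of k))
    [LocallyOfFiniteType g] : Finite {q : Spec (CommRingCat.of E) ⟶ U // q ≫ g = (SGA7.pt (K := k) E).hom} := by
  obtain ⟨α, hα⟩ := Spec.map_surjective (U.isoSpec.inv ≫ g)
  letI := α.hom.toAlgebra
  haveI : Algebra.FiniteType k Γ(U, ⊤) := by
    have : LocallyOfFiniteType (Spec.map α) := by rw [hα]; infer_instance
    exact (HasRingHomProperty.Spec_iff (P := @LocallyOfFiniteType)).1 this
  obtain ⟨s, hs⟩ := ‹Algebra.FiniteType k Γ(U, ⊤)›.out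
  haveI : Finite ((Γ(U, ⊤) : Type u) →ₐ[k] E) :=
    Finite.of_injective (fun φ : (Γ(U, ⊤) : Type u) →ₐ[k] E => fun x : s => φ x.1) fun φ ψ h =>
      AlgHom.ext_of_adjoin_eq_top hs fun x hx => congrFun h ⟨x, hx⟩
  have key : ∀ q : {q : Spec (CommRingCat.of E) ⟶ U // q ≫ g = (SGA7.pt (K := k) E).hom},
      ∃ φ : (Γ(U, ⊤) : Type u) →ₐ[k] E, Spec.map (CommRingCat.ofHom φ.toRingHom) ≫ U.isoSpec.inv = q.1 := by
    rintro ⟨q, hq⟩
    obtain ⟨β, hβ⟩ := Spec.map_surjective (q ≫ U.isoSpec.hom)
    have hid : α ≫ β = CommRingCat.ofHom (algebraMap k E) := Spec.map_injective (by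
      rw [Spec.map_comp, hα, hβ, Category.assoc, Iso.hom_inv_id_assoc, hq]
      rfl)
    refine ⟨{ β.hom with commutes' := fun a => congrArg (fun z => z.hom a) hid }, ?_⟩
    show Spec.map β ≫ U.isoSpec.inv = q
    rw [hβ, Category.assoc, Iso.hom_inv_id, Category.comp_id]
  choose φ hφ using key
  exact Finite.of_injective φ fun a b h => Subtype.ext (by rw [← hφ a, ← hφ b, h])

variable (E) in
theorem finite_pts (X : Over (Spec (CommRingCat.of k))) [LocallyOfFiniteType X.hom] [QuasiCompact X.hom] :
    Finite (SGA7.pt (K := k) E ⟶ X) := by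
  haveI : CompactSpace ↥X.left := QuasiCompact.compactSpace_of_compactSpace X.hom
  let 𝒰 := X.left.affineCover.finiteSubcover
  haveI : ∀ i, IsAffine (𝒰.X i) := fun i => inferInstanceAs (IsAffine (X.left.affineCover.X _))
  haveI := fun i => finite_pts_affine (E := E) (𝒰.f i ≫ X.hom)
  have key : ∀ p : SGA7.pt (K := k) E ⟶ X,
      ∃ a : Σ i, {q : Spec (CommRingCat.of E) ⟶ 𝒰.X i // q ≫ 𝒰.f i ≫ X.hom = (SGA7.pt (K := k) E).hom},
        a.2.1 ≫ 𝒰.f a.1 = p.left := by
    intro p
    obtain ⟨i, y, hy⟩ := 𝒰.exists_eq (p.left (IsLocalRing.closedPoint E))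
    haveI : IsOpenImmersion (𝒰.f i) := 𝒰.map_prop i
    have hsub : Set.range p.left ⊆ Set.range (𝒰.f i) := by
      rintro _ ⟨x, rfl⟩
      obtain rfl : x = IsLocalRing.closedPoint E := (inferInstance : Subsingleton (PrimeSpectrum E)).elim x _
      exact ⟨y, hy⟩
    refine ⟨⟨i, IsOpenImmersion.lift (𝒰.f i) p.left hsub, ?_⟩, IsOpenImmersion.lift_fac _ _ _⟩
    rw [IsOpenImmersion.lift_fac_assoc]
    exact Over.w p
  choose a ha using key
  exact Finite.of_injective a fun p p' h => Over.OverMorphism.ext (by rw [← ha p, ← ha p', h])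

variable {k' : Type u} [Field k'] [Finite k'] [Algebra k k'] [Algebra k' E] [IsScalarTower k k' E]

/-- A finite extension of a finite field is an étale covering. -/
theorem incl_mem_etalePrecoverage :
    Presieve.singleton (incl k k' E).left ∈ Scheme.etalePrecoverage (SGA7.pt (K := k) k').left := by
  obtain ⟨he, hs, -⟩ := etale_incl (k := k) (k' := k') (E := E)
  exact (Scheme.singleton_mem_precoverage_iff (P := @Etale) _).2 ⟨hs.surj, he⟩

end Groth.Agent.Stk19b.Count
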