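import Mathlib.GroupTheory.GroupAction.Quotient
import Mathlib.GroupTheory.Coset.Card
import Mathlib.Tactic.FieldSimp
import Mathlib.Algebra.BigOperators.Field
import Mathlib.Algebra.BigOperators.Finprod
import Mathlib.SetTheory.Cardinal.Finite
import Mathlib.Data.Rat.Defs
import Mathlib.Algebra.Field.Rat

/-! Sums of inverse stabiliser orders over orbits, split along an equivariant map. -/

set_option autoImplicit false
set_option linter.style.haveILetI false

namespace Groth.Agent.Stk19b.Count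

open MulAction

variable (Γ : Type*) [Group Γ] (P : Type*) [MulAction Γ P]

/-- The mass of an action: the sum over the orbits of the inverse orders of stabilisers. -/
noncomputable def mass : ℚ :=
  ∑ᶠ ω : orbitRel.Quotient Γ P, ((Nat.card (stabilizer Γ ω.out) : ℕ) : ℚ)⁻¹

variable {Γ P}

theorem card_stabilizer_out (p : P) :
    Nat.card (stabilizer Γ (Quotient.mk (orbitRel Γ P) p).out) = Nat.card (stabilizer Γ p) := by
  have h : (orbitRel Γ P) (Quotient.mk (orbitRel Γ P) p).out p := Quotient.mk_out p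
  exact Nat.card_congr (stabilizerEquivStabilizerOfOrbitRel h).toEquiv

variable {A : Type*} [MulAction Γ A] (f : P →[Γ] A)

/-- The fibre of an equivariant map as a set with an action of the stabiliser. -/
abbrev Fibre (a : A) : Type _ := {p : P // f p = a}

instance fibreAction (a : A) : MulAction (stabilizer Γ a) (Fibre f a) where
  smul g p := ⟨g.1 • p.1, by rw [map_smul, p.2]; exact g.2⟩
  one_smul p := Subtype.ext (one_smul Γ p.1)
  mul_smul g h p := Subtype.ext (mul_smul g.1 h.1 p.1)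

theorem fibre_smul_val {a : A} (g : stabilizer Γ a) (p : Fibre f a) : (g • p).1 = g.1 • p.1 := rfl

theorem card_stabilizer_fibre {a : A} (p : Fibre f a) :
    Nat.card (stabilizer (stabilizer Γ a) p) = Nat.card (stabilizer Γ p.1) := by
  refine Nat.card_congr
    { toFun := fun g => ⟨g.1.1, congrArg Subtype.val g.2⟩
      invFun := fun g => ⟨⟨g.1, ?_⟩, Subtype.ext g.2⟩
      left_inv := fun g => rfl
      right_inv := fun g => rfl }
  show g.1 • a = a
  have h := map_smul f g.1 p.1
  rw [g.2, p.2] at h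
  exact h.symm

/-- The mass splits over representatives of the classes of the target. -/
theorem mass_eq_sum {ι : Type*} [Fintype ι] (rep : ι → A) (hex : ∀ p, ∃ c, ∃ g : Γ, g • rep c = f p)
    (hinj : ∀ c c' (g : Γ), g • rep c = rep c' → c = c') [Finite (orbitRel.Quotient Γ P)] :
    mass Γ P = ∑ c, mass (stabilizer Γ (rep c)) (Fibre f (rep c)) := by
  classical
  let Φ : (Σ c, orbitRel.Quotient (stabilizer Γ (rep c)) (Fibre f (rep c))) → orbitRel.Quotient Γ P :=
    fun x => Quotient.liftOn x.2 (fun p => Quotient.mk _ p.1) (by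
      intro p q h
      obtain ⟨g, hg⟩ := h
      exact Quotient.sound ⟨g.1, congrArg Subtype.val hg⟩)
  have hΦ : Function.Bijective Φ := by
    refine ⟨?_, ?_⟩
    · rintro ⟨c, ⟨p⟩⟩ ⟨c', ⟨q⟩⟩ h
      obtain ⟨g, hg : g • q.1 = p.1⟩ := Quotient.exact h
      obtain rfl : c' = c := hinj c' c g (by rw [← q.2, ← map_smul, hg, p.2])
      refine congrArg _ (Quotient.sound ⟨⟨g, ?_⟩, Subtype.ext hg⟩)
      show g • rep c' = rep c'
      have h := map_smul f g q.1
      rw [hg, p.2, q.2] at h
      exact h.symm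
    · rintro ⟨p⟩
      obtain ⟨c, g, hg⟩ := hex p
      exact ⟨⟨c, Quotient.mk _ ⟨g⁻¹ • p, by rw [map_smul, ← hg, inv_smul_smul]⟩⟩, Quotient.sound ⟨g⁻¹, rfl⟩⟩
  haveI : Finite (Σ c, orbitRel.Quotient (stabilizer Γ (rep c)) (Fibre f (rep c))) :=
    Finite.of_injective Φ hΦ.1
  haveI : ∀ c, Finite (orbitRel.Quotient (stabilizer Γ (rep c)) (Fibre f (rep c))) := fun c =>
    Finite.of_injective (Sigma.mk (β := fun c => orbitRel.Quotient (stabilizer Γ (rep c)) (Fibre f (rep c))) c)
      sigma_mk_injective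
  haveI := Fintype.ofFinite (orbitRel.Quotient Γ P)
  haveI := fun c => Fintype.ofFinite (orbitRel.Quotient (stabilizer Γ (rep c)) (Fibre f (rep c)))
  simp only [mass, finsum_eq_sum_of_fintype]
  rw [← Fintype.sum_bijective Φ hΦ _ _ fun _ => rfl, Fintype.sum_sigma]
  refine Finset.sum_congr rfl fun c _ => Finset.sum_congr rfl fun x _ => ?_
  obtain ⟨p, rfl⟩ := Quotient.exists_rep x
  show ((Nat.card (stabilizer Γ (Quotient.mk (orbitRel Γ P) p.1).out) : ℕ) : ℚ)⁻¹ = _
  rw [card_stabilizer_out, card_stabilizer_out, card_stabilizer_fibre]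

/-- The mass of a finite action. -/
theorem mass_eq_div [Finite Γ] [Finite P] : mass Γ P = (Nat.card P : ℚ) / (Nat.card Γ : ℚ) := by
  classical
  haveI := Fintype.ofFinite Γ
  haveI := Fintype.ofFinite P
  haveI : Fintype (orbitRel.Quotient Γ P) := Fintype.ofFinite _
  have hΓ : (Nat.card Γ : ℚ) ≠ 0 := by exact_mod_cast Nat.card_pos.ne'
  rw [mass, finsum_eq_sum_of_fintype, eq_div_iff hΓ, Finset.sum_mul,
    Nat.card_congr (selfEquivSigmaOrbitsQuotientStabilizer Γ P)]
  haveI : ∀ ω : Quotient (orbitRel Γ P), Finite (Γ ⧸ stabilizer Γ ω.out) := fun ω => Quotient.finite _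
  rw [Nat.card_sigma, Nat.cast_sum]
  refine Finset.sum_congr rfl fun ω _ => ?_
  rw [Subgroup.card_eq_card_quotient_mul_card_subgroup (α := Γ) (stabilizer Γ ω.out), Nat.cast_mul]
  have h : (Nat.card (stabilizer Γ ω.out) : ℚ) ≠ 0 := by exact_mod_cast Nat.card_pos.ne'
  field_simp

theorem mass_congr {Γ' P' : Type*} [Group Γ'] [MulAction Γ' P'] (e : Γ' ≃* Γ) (e' : P' ≃ P)
    (he : ∀ g p, e' (g • p) = e g • e' p) : mass Γ' P' = mass Γ P := by
  let Φ : orbitRel.Quotient Γ' P' → orbitRel.Quotient Γ P := Quotient.map e' (by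
    rintro p q ⟨g, hg⟩
    exact ⟨e g, (he g q).symm.trans (congrArg e' hg)⟩)
  have hΦ : Function.Bijective Φ := by
    refine ⟨?_, ?_⟩
    · rintro ⟨p⟩ ⟨q⟩ h
      obtain ⟨g, hg : g • e' q = e' p⟩ := Quotient.exact h
      exact Quotient.sound ⟨e.symm g, e'.injective (by show e' (e.symm g • q) = e' p; rw [he, e.apply_symm_apply, hg])⟩
    · rintro ⟨p⟩
      exact ⟨Quotient.mk _ (e'.symm p), congrArg (Quotient.mk _) (e'.apply_symm_apply p)⟩
  refine finsum_eq_of_bijective Φ hΦ fun x => ?_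
  obtain ⟨p, rfl⟩ := Quotient.exists_rep x
  show _ = ((Nat.card (stabilizer Γ (Quotient.mk (orbitRel Γ P) (e' p)).out) : ℕ) : ℚ)⁻¹
  rw [card_stabilizer_out, card_stabilizer_out]
  congr 2
  exact Nat.card_congr (e.toEquiv.subtypeEquiv fun g => by
    show g • p = p ↔ e g • e' p = e' p
    rw [← he]
    exact e'.injective.eq_iff.symm)

end Groth.Agent.Stk19b.Count
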