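import Groth.Agent.Stk19b.Count.TorsorExists
import Groth.Agent.Stk19b.Count.FinPts
import Groth.Agent.Stk19b.Count.Orbits
import Groth.Agent.Stk19b.TorsorPoints

/-! The fibre of a quotient stack over a finite field, classified by Frobenius values. -/

set_option autoImplicit false
set_option linter.style.haveILetI false
set_option linter.unusedSectionVars false
set_option backward.isDefEq.respectTransparency false
set_option backward.isDefEq.respectTransparency.types false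

universe u

open CategoryTheory CategoryTheory.Limits AlgebraicGeometry MonoidalCategory CartesianMonoidalCategory MonObj GrpObj

namespace Groth.Agent.Stk19b.Count

open QuotTriv

variable {k : Type u} [Field k] (k' : Type u) [Field k'] [Algebra k k'] (L : Type u) [Field L] [Algebra k L]
  [Algebra k' L] [IsScalarTower k k' L] [Finite k'] {G X : Over (Spec (CommRingCat.of k))} [GrpObj G]
  (aX : AlgGrp.Action G X)

/-- A geometric point of `G` and a point of `X` moved to its translate by Frobenius. -/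
def Pairs : Type u :=
  {q : (SGA7.pt (K := k) L ⟶ G) × (SGA7.pt (K := k) L ⟶ X) // frM k k' L ≫ q.2 = smulPt aX q.1 q.2}

noncomputable instance pairsAction : MulAction (SGA7.pt (K := k) L ⟶ G) (Pairs k' L aX) where
  smul g q := ⟨((frM k k' L ≫ g) * q.1.1 * g⁻¹, smulPt aX g q.1.2), by
    rw [comp_smulPt, q.2, ← smulPt_mul, ← smulPt_mul, inv_mul_cancel_right]⟩
  one_smul q := Subtype.ext (Prod.ext (by
    show (frM k k' L ≫ (1 : SGA7.pt (K := k) L ⟶ G)) * q.1.1 * 1⁻¹ = q.1.1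
    rw [MonObj.comp_one, inv_one, _root_.one_mul, _root_.mul_one]) (smulPt_one aX q.1.2))
  mul_smul g h q := Subtype.ext (Prod.ext (by
    show (frM k k' L ≫ (g * h)) * q.1.1 * (g * h)⁻¹ =
      (frM k k' L ≫ g) * ((frM k k' L ≫ h) * q.1.1 * h⁻¹) * g⁻¹
    rw [MonObj.comp_mul, _root_.mul_inv_rev]
    simp only [_root_.mul_assoc]) (smulPt_mul aX g h q.1.2))

theorem pairs_smul_fst (g : SGA7.pt (K := k) L ⟶ G) (q : Pairs k' L aX) :
    (g • q).1.1 = (frM k k' L ≫ g) * q.1.1 * g⁻¹ := rfl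

theorem pairs_smul_snd (g : SGA7.pt (K := k) L ⟶ G) (q : Pairs k' L aX) :
    (g • q).1.2 = smulPt aX g q.1.2 := rfl

theorem smul_eq_iff (g : SGA7.pt (K := k) L ⟶ G) (q q' : Pairs k' L aX) :
    g • q' = q ↔ q.1.1 * g = (frM k k' L ≫ g) * q'.1.1 ∧ smulPt aX g q'.1.2 = q.1.2 := by
  constructor
  · rintro rfl
    exact ⟨by rw [pairs_smul_fst, inv_mul_cancel_right], rfl⟩
  · rintro ⟨h1, h2⟩
    exact Subtype.ext (Prod.ext (by rw [pairs_smul_fst, ← h1, mul_inv_cancel_right]) h2)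

/-- The fibre of the quotient stack over the finite field. -/
abbrev Fib := (AlgSt.QuotSt Scheme.etalePrecoverage G aX).p.Fiber (SGA7.pt (K := k) k')

/-- An object and a pair match. -/
def Matches (a : Fib k' aX) (q : Pairs k' L aX) : Prop :=
  ∃ τ : Triv a.1 (a.2 : a.1.base = _) q.1.1, τ.t ≫ a.1.φ = q.1.2

variable [IsAlgClosed L]

theorem exists_matches (a : Fib k' aX) : ∃ q : Pairs k' L aX, Matches k' L aX a q := by
  have hA : a.1.base = SGA7.pt (K := k) k' := a.2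
  obtain ⟨t, ht⟩ := TorsorPoints.exists_geomPoint TorsorPoints.etale_le_lft (A := a.1) L
    (T := SGA7.pt (K := k) L) (Iso.refl _) (incl k k' L ≫ eqToHom hA.symm)
  obtain ⟨g, hg, -⟩ := existsUnique_smul a.1 t (frM k k' L ≫ t)
    (by rw [Category.assoc, ht, ← Category.assoc, frM_inclBase])
  refine ⟨⟨(g, t ≫ a.1.φ), ?_⟩, ⟨t, ?_, hg.symm⟩, rfl⟩
  · show frM k k' L ≫ t ≫ a.1.φ = smulPt aX g (t ≫ a.1.φ)
    rw [← Category.assoc, ← hg, comp_φ]
  · rw [← Category.assoc, ht]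
    simp

theorem hom_base {a b : Fib k' aX} (φ : a ⟶ b) :
    φ.1.base = eqToHom ((a.2 : a.1.base = _).trans (b.2 : b.1.base = _).symm) := by
  haveI := φ.2
  have := IsHomLift.fac' (AlgSt.QuotSt Scheme.etalePrecoverage G aX).p (𝟙 (SGA7.pt (K := k) k')) φ.1
  rw [Category.id_comp, eqToHom_trans] at this
  exact this

theorem isIso_fib {a b : Fib k' aX} (φ : a ⟶ b) : IsIso φ := by
  haveI : IsIso φ.1.base := by rw [hom_base]; infer_instance
  haveI := isIso_of_base φ.1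
  refine ⟨⟨inv φ.1, ?_⟩, Subtype.ext (IsIso.hom_inv_id _), Subtype.ext (IsIso.inv_hom_id _)⟩
  haveI := φ.2
  infer_instance

variable [Finite k] [Algebra.IsAlgebraic k L] [IsAffineHom G.hom] [Smooth G.hom]

theorem exists_homEquiv {a b : Fib k' aX} {q q' : Pairs k' L aX} (ha : Matches k' L aX a q)
    (hb : Matches k' L aX b q') : Nonempty ((a ⟶ b) ≃ {g : SGA7.pt (K := k) L ⟶ G // g • q' = q}) := by
  obtain ⟨τ, hτ⟩ := ha
  obtain ⟨σ, hσ⟩ := hb
  obtain ⟨d₁, hd₁, hfa, hna⟩ := exists_norm_one k k' L q.1.1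
  obtain ⟨d₂, hd₂, hfb, hnb⟩ := exists_norm_one k k' L q'.1.1
  have hA : a.1.base = SGA7.pt (K := k) k' := a.2
  have hB : b.1.base = SGA7.pt (K := k) k' := b.2
  have hex : ∀ φ : a ⟶ b, ∃ g : SGA7.pt (K := k) L ⟶ G,
      τ.t ≫ φ.1.top = smulPt b.1.act g σ.t ∧ g • q' = q := by
    intro φ
    have hπ : (τ.t ≫ φ.1.top) ≫ b.1.π = σ.t ≫ b.1.π := by
      rw [Category.assoc, φ.1.cart.w, hom_base k' aX φ, ← cancel_mono (eqToHom hB)]
      simpa using τ.π_eq.trans σ.π_eq.symm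
    obtain ⟨g, hg, -⟩ := existsUnique_smul b.1 σ.t (τ.t ≫ φ.1.top) hπ
    refine ⟨g, hg.symm, (smul_eq_iff k' L aX g q q').2 ⟨?_, ?_⟩⟩
    · have e1 : smulPt b.1.act (q.1.1 * g) σ.t = smulPt b.1.act ((frM k k' L ≫ g) * q'.1.1) σ.t := by
        rw [smulPt_mul, hg, ← hom_top_smul φ.1, ← τ.frob, Category.assoc, ← hg, comp_smulPt, σ.frob, smulPt_mul]
      exact (existsUnique_smul b.1 σ.t _ (smulPt_π b.1 _ σ.t)).unique e1 rfl
    · rw [← hσ, ← comp_φ, hg, Category.assoc, φ.1.wφ, hτ]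
  choose gm hgm hgmq using hex
  refine ⟨Equiv.ofBijective (fun φ => ⟨gm φ, hgmq φ⟩) ⟨fun φ ψ h => ?_, fun g => ?_⟩⟩
  · have h' : gm φ = gm ψ := congrArg Subtype.val h
    obtain ⟨E, hEf, hE⟩ := exists_level k' L (d₁ * 1) (by omega)
    haveI : IsScalarTower k E L := IsScalarTower.of_algebraMap_eq fun x => rfl
    obtain ⟨tA, htA⟩ := exists_tE hE τ (hna 1)
    have e1 : tA ≫ φ.1.top = tA ≫ ψ.1.top := cancel_level (L := L) hE _ _ (by
      rw [← Category.assoc, htA, ← Category.assoc, htA, hgm φ, hgm ψ, h'])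
    refine Subtype.ext (AlgSt.QuotObj.hom_ext (by rw [hom_base k' aX φ, hom_base k' aX ψ]) ?_)
    apply epi_level L hE (isPullback_level hE τ tA htA)
    rw [hom_top_smul, hom_top_smul, Category.assoc, Category.assoc, e1]
  · obtain ⟨g, hg⟩ := g
    obtain ⟨h1, h2⟩ := (smul_eq_iff k' L aX g q q').1 hg
    obtain ⟨d₃, hd₃, hfg⟩ := exists_period k k' L g
    obtain ⟨E, hEf, hE⟩ := exists_level k' L (d₁ * (d₂ * d₃)) (Nat.mul_pos hd₁ (Nat.mul_pos hd₂ hd₃))
    haveI : IsScalarTower k E L := IsScalarTower.of_algebraMap_eq fun x => rfl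
    obtain ⟨α, hα, -⟩ := existsUnique_level hE q.1.1 (powM_mul_fix _ _ _ hfa _)
    obtain ⟨β, hβ, -⟩ := existsUnique_level hE q'.1.1 (by
      rw [Nat.mul_left_comm]; exact powM_mul_fix _ _ _ hfb _)
    obtain ⟨cc, hcc, -⟩ := existsUnique_level hE g (by
      rw [← Nat.mul_assoc, Nat.mul_comm]; exact powM_mul_fix _ _ _ hfg _)
    obtain ⟨tA, htA⟩ := exists_tE hE τ (hna _)
    obtain ⟨tB, htB⟩ := exists_tE hE σ (by rw [Nat.mul_left_comm]; exact hnb _)
    have hc : α * cc = (frM k k' E ≫ cc) * β := cancel_level (L := L) hE _ _ (by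
      rw [MonObj.comp_mul, MonObj.comp_mul, hα, hcc, hβ, ← Category.assoc, ← frM_incl, Category.assoc, hcc, h1])
    have hxx : smulPt aX cc (tB ≫ b.1.φ) = tA ≫ a.1.φ := cancel_level (L := L) hE _ _ (by
      rw [comp_smulPt, hcc, ← Category.assoc, htB, hσ, ← Category.assoc, htA, hτ, h2])
    obtain ⟨h, hb0, htop⟩ := isIso_top hE τ σ α β cc hα hβ tA htA tB htB hc hxx
    refine ⟨⟨h, IsHomLift.of_fac' _ _ _ hA hB ?_⟩, Subtype.ext ?_⟩
    · show h.base = _
      rw [hb0, Category.id_comp, eqToHom_trans]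
    · show gm _ = g
      refine (existsUnique_smul b.1 σ.t (smulPt b.1.act g σ.t) (smulPt_π b.1 g σ.t)).unique ?_ rfl
      rw [← hgm]
      show τ.t ≫ h.top = _
      rw [← htA, Category.assoc, htop, hcc]

variable [LocallyOfFiniteType X.hom]

theorem exists_obj (q : Pairs k' L aX) : ∃ a : Fib k' aX, Matches k' L aX a q := by
  obtain ⟨d, hd, hfa, hna⟩ := exists_norm_one k k' L q.1.1
  obtain ⟨d', hd', hfx⟩ := exists_period k k' L q.1.2
  obtain ⟨E, hEf, hE⟩ := exists_level k' L (d * d') (Nat.mul_pos hd hd')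
  haveI : IsScalarTower k E L := IsScalarTower.of_algebraMap_eq fun x => rfl
  obtain ⟨A, hA, τ, hτ⟩ := exists_object (n := d * d') hE aX (K := Scheme.etalePrecoverage)
    incl_mem_etalePrecoverage q.1.1 q.1.2 (powM_mul_fix _ _ _ hfa _)
    (by rw [Nat.mul_comm]; exact powM_mul_fix _ _ _ hfx _) (hna _) q.2
  exact ⟨⟨A, hA⟩, τ, hτ⟩

theorem card_aut {a : Fib k' aX} {q : Pairs k' L aX} (ha : Matches k' L aX a q) :
    Nat.card (Aut a) = Nat.card (MulAction.stabilizer (SGA7.pt (K := k) L ⟶ G) q) := by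
  obtain ⟨e⟩ := exists_homEquiv k' L aX ha ha
  let e' : Aut a ≃ (a ⟶ a) :=
    { toFun := fun i => i.hom
      invFun := fun φ => haveI := isIso_fib k' aX φ; asIso φ
      left_inv := fun i => Iso.ext rfl
      right_inv := fun φ => rfl }
  exact Nat.card_congr (e'.trans e)

theorem nonempty_iso_iff {a b : Fib k' aX} {q q' : Pairs k' L aX} (ha : Matches k' L aX a q)
    (hb : Matches k' L aX b q') : Nonempty (a ≅ b) ↔ ∃ g : SGA7.pt (K := k) L ⟶ G, g • q' = q := by
  obtain ⟨e⟩ := exists_homEquiv k' L aX ha hb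
  refine ⟨fun ⟨i⟩ => ⟨_, (e i.hom).2⟩, fun ⟨g, hg⟩ => ?_⟩
  haveI := isIso_fib k' aX (e.symm ⟨g, hg⟩)
  exact ⟨asIso (e.symm ⟨g, hg⟩)⟩

/-- The point count is the mass of the pairs. -/
theorem count_eq_mass (h : StkCnt.IsEssFinite (Fib k' aX)) :
    Finite (MulAction.orbitRel.Quotient (SGA7.pt (K := k) L ⟶ G) (Pairs k' L aX)) ∧
      (∀ q : Pairs k' L aX, Finite (MulAction.stabilizer (SGA7.pt (K := k) L ⟶ G) q)) ∧
      StkCnt.count (Fib k' aX) h = mass (SGA7.pt (K := k) L ⟶ G) (Pairs k' L aX) := by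
  choose obj hobj using exists_obj k' L aX
  let Φ : MulAction.orbitRel.Quotient (SGA7.pt (K := k) L ⟶ G) (Pairs k' L aX) → StkCnt.IsoCl (Fib k' aX) :=
    Quotient.map obj fun p q hpq => (nonempty_iso_iff k' L aX (hobj p) (hobj q)).2 hpq
  have hΦ : Function.Bijective Φ := by
    refine ⟨?_, ?_⟩
    · rintro ⟨p⟩ ⟨q⟩ e
      exact Quotient.sound ((nonempty_iso_iff k' L aX (hobj p) (hobj q)).1 (Quotient.exact e))
    · rintro ⟨a⟩
      obtain ⟨q, hq⟩ := exists_matches k' L aX a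
      refine ⟨Quotient.mk _ q, Quotient.sound ((nonempty_iso_iff k' L aX (hobj q) hq).2 ⟨1, one_smul _ _⟩)⟩
  haveI := h.finite_isoCl
  haveI : Finite (MulAction.orbitRel.Quotient (SGA7.pt (K := k) L ⟶ G) (Pairs k' L aX)) :=
    Finite.of_injective Φ hΦ.1
  refine ⟨this, fun q => ?_, ?_⟩
  · obtain ⟨e⟩ := exists_homEquiv k' L aX (hobj q) (hobj q)
    haveI := h.finite_hom (obj q) (obj q)
    exact Finite.of_equiv _ e
  · haveI := Fintype.ofFinite (StkCnt.IsoCl (Fib k' aX))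
    haveI := Fintype.ofFinite (MulAction.orbitRel.Quotient (SGA7.pt (K := k) L ⟶ G) (Pairs k' L aX))
    rw [StkCnt.count_eq_sum h, mass, finsum_eq_sum_of_fintype]
    refine (Fintype.sum_bijective Φ hΦ _ _ fun ω => ?_).symm
    obtain ⟨q, rfl⟩ := Quotient.exists_rep ω
    rw [card_stabilizer_out, ← card_aut k' L aX (hobj q)]
    rfl

end Groth.Agent.Stk19b.Count
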