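import Groth.Agent.Stk19b.Count.Classify
import Groth.Agent.Stk19b.Count.Twist
import Groth.Agent.Stk19b.Count.Cocycle

/-! Galois orbits of geometric points over finite fields; twisted conjugation by Frobenius. -/

set_option autoImplicit false
set_option linter.style.haveILetI false
set_option linter.unusedSectionVars false
set_option backward.isDefEq.respectTransparency false
set_option backward.isDefEq.respectTransparency.types false

universe u

open CategoryTheory CategoryTheory.Limits AlgebraicGeometry MonoidalCategory CartesianMonoidalCategory MonObj GrpObj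

namespace Groth.Agent.Stk19b.Count

open QuotTriv

section Twisted

variable {k : Type u} [Field k] (k' : Type u) [Field k'] [Algebra k k'] (L : Type u) [Field L] [Algebra k L]
  [Algebra k' L] [IsScalarTower k k' L] [Finite k']

/-- Geometric points of a group, under Frobenius-twisted conjugation. -/
def TwG (G : Over (Spec (CommRingCat.of k))) : Type u := SGA7.pt (K := k) L ⟶ G

variable {G X : Over (Spec (CommRingCat.of k))} [GrpObj G] (aX : AlgGrp.Action G X)

/-- The Frobenius-twisted conjugate `(F g) a g⁻¹`. -/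
noncomputable def twConj (g a : SGA7.pt (K := k) L ⟶ G) : SGA7.pt (K := k) L ⟶ G :=
  (frM k k' L ≫ g) * a * g⁻¹

end Twisted

section Twisted'

variable {k : Type u} [Field k] {k' : Type u} [Field k'] [Algebra k k'] {L : Type u} [Field L] [Algebra k L]
  [Algebra k' L] [IsScalarTower k k' L] [Finite k'] {G X : Over (Spec (CommRingCat.of k))} [GrpObj G]
  {aX : AlgGrp.Action G X}

/-- Twisted conjugation as an action. -/
@[reducible] noncomputable def twAction :
    MulAction (SGA7.pt (K := k) L ⟶ G) (TwG L G) where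
  smul g a := twConj k' L g a
  one_smul a := by
    show twConj k' L 1 a = a
    rw [twConj, MonObj.comp_one, inv_one, _root_.one_mul, _root_.mul_one]
  mul_smul g h a := by
    show twConj k' L (g * h) a = twConj k' L g (twConj k' L h a)
    simp only [twConj]
    rw [MonObj.comp_mul, _root_.mul_inv_rev]
    simp only [_root_.mul_assoc]

theorem powM_conj (a g : SGA7.pt (K := k) L ⟶ G) (h : twConj k' L g a = a) (i : ℕ) :
    powM (frM k k' L) i ≫ g = normM k k' L a i * g * (normM k k' L a i)⁻¹ := by
  have hg : frM k k' L ≫ g = a * g * a⁻¹ := by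
    rw [eq_mul_inv_iff_mul_eq, ← mul_inv_eq_iff_eq_mul]
    exact h
  induction i with
  | zero => simp [powM, normM]
  | succ i ih =>
    rw [powM, Category.assoc, ih, MonObj.comp_mul, MonObj.comp_mul, GrpObj.comp_inv, hg, normM,
      _root_.mul_inv_rev]
    simp only [_root_.mul_assoc]

theorem powM_smul (a : SGA7.pt (K := k) L ⟶ G) (x : SGA7.pt (K := k) L ⟶ X)
    (h : frM k k' L ≫ x = smulPt aX a x) (i : ℕ) :
    powM (frM k k' L) i ≫ x = smulPt aX (normM k k' L a i) x := by
  induction i with
  | zero => simp [powM, normM, smulPt_one]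
  | succ i ih => rw [powM, Category.assoc, ih, comp_smulPt, h, ← smulPt_mul]; rfl

theorem finite_fixed [Finite k] [IsAlgClosed L] {Y : Over (Spec (CommRingCat.of k))} [LocallyOfFiniteType Y.hom]
    [QuasiCompact Y.hom] (n : ℕ) (hn : 0 < n) :
    Finite {y : SGA7.pt (K := k) L ⟶ Y // powM (frM k k' L) n ≫ y = y} := by
  obtain ⟨E, hEf, hE⟩ := exists_level k' L n hn
  haveI : IsScalarTower k E L := IsScalarTower.of_algebraMap_eq fun x => rfl
  haveI := finite_pts (E := E) Y
  choose p hp using fun y : {y : SGA7.pt (K := k) L ⟶ Y // powM (frM k k' L) n ≫ y = y} =>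
    (existsUnique_level hE y.1 y.2).exists
  exact Finite.of_injective p fun y y' h => Subtype.ext (by rw [← hp y, ← hp y', h])

/-- Twisted centralisers and twisted fixed points are finite. -/
theorem finite_twisted [Finite k] [IsAlgClosed L] [Algebra.IsAlgebraic k L] [IsAffineHom G.hom] [Smooth G.hom]
    [LocallyOfFiniteType X.hom] [QuasiCompact X.hom] (a : SGA7.pt (K := k) L ⟶ G) :
    Finite {g : SGA7.pt (K := k) L ⟶ G // twConj k' L g a = a} ∧
      Finite {x : SGA7.pt (K := k) L ⟶ X // frM k k' L ≫ x = smulPt aX a x} := by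
  obtain ⟨d, hd, -, hn⟩ := exists_norm_one k k' L a
  have h1 : normM k k' L a d = 1 := by simpa using hn 1
  haveI := finite_fixed (k' := k') (L := L) (Y := G) d hd
  haveI := finite_fixed (k' := k') (L := L) (Y := X) d hd
  constructor
  · exact Finite.of_injective
      (fun g : {g : SGA7.pt (K := k) L ⟶ G // twConj k' L g a = a} =>
        (⟨g.1, by rw [powM_conj a g.1 g.2, h1, inv_one, _root_.one_mul, _root_.mul_one]⟩ :
          {y : SGA7.pt (K := k) L ⟶ G // powM (frM k k' L) d ≫ y = y}))
      fun g g' e => Subtype.ext (congrArg Subtype.val e :)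
  · exact Finite.of_injective
      (fun x : {x : SGA7.pt (K := k) L ⟶ X // frM k k' L ≫ x = smulPt aX a x} =>
        (⟨x.1, by rw [powM_smul (aX := aX) a x.1 x.2, h1, smulPt_one]⟩ :
          {y : SGA7.pt (K := k) L ⟶ X // powM (frM k k' L) d ≫ y = y}))
      fun x x' e => Subtype.ext (congrArg Subtype.val e :)

end Twisted'

section Galois

variable {k : Type u} [Field k] [Finite k] {L : Type u} [Field L] [Algebra k L] [IsAlgClosed L]
  [Algebra.IsAlgebraic k L]

omit [Finite k] in
theorem isOpen_smul_eq {X : Over (Spec (CommRingCat.of k))} [LocallyOfFiniteType X.hom] (x : SGA7.Pts L X) :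
    IsOpen {σ : L ≃ₐ[k] L | σ • x = x} := by
  obtain ⟨E, hE, hp⟩ := exists_finite_level x
  haveI := hE
  obtain ⟨p, hp⟩ := hp (incl k E L) (incl_left k E L)
  show IsOpen (MulAction.stabilizer (L ≃ₐ[k] L) x : Set (L ≃ₐ[k] L))
  refine Subgroup.isOpen_mono (fun σ hσ => ?_) E.fixingSubgroup_isOpen
  rw [IntermediateField.mem_fixingSubgroup_iff] at hσ
  show σ • x = x
  rw [GalTw.pts_smul_def, ← hp, ← Category.assoc]
  congr 1
  apply Over.OverMorphism.ext
  rw [Over.comp_left, incl_left]
  show Spec.map _ ≫ Spec.map _ = Spec.map _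
  rw [← Spec.map_comp]
  congr 1
  ext a
  exact hσ a.1 a.2

theorem exists_finite_stable {G : Over (Spec (CommRingCat.of k))} [GrpObj G] [LocallyOfFiniteType G.hom]
    [QuasiCompact G.hom] (a : SGA7.Pts L G) :
    ∃ H : Subgroup (SGA7.Pts L G), (H : Set (SGA7.Pts L G)).Finite ∧ a ∈ H ∧
      ∀ (σ : L ≃ₐ[k] L) (x : SGA7.Pts L G), x ∈ H → σ • x ∈ H := by
  obtain ⟨n, hn, ha⟩ := exists_period k k L a
  let H : Subgroup (SGA7.Pts L G) :=
    { carrier := {g | powM (frM k k L) n ≫ g = g}
      one_mem' := MonObj.comp_one _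
      mul_mem' := fun {g h} hg hh => (MonObj.comp_mul _ g h).trans (congrArg₂ (· * ·) hg hh)
      inv_mem' := fun {g} hg => (GrpObj.comp_inv _ g).trans (congrArg (·⁻¹) hg) }
  refine ⟨H, ?_, ha, fun σ x hx => ?_⟩
  · haveI := finite_fixed (k' := k) (L := L) (Y := G) n hn
    exact Set.finite_coe_iff.1 (inferInstanceAs (Finite {g // powM (frM k k L) n ≫ g = g}))
  · have hc : SGA7.specAut σ ≫ frM k k L = frM k k L ≫ SGA7.specAut σ := by
      apply Over.OverMorphism.ext
      show Spec.map _ ≫ Spec.map _ = Spec.map _ ≫ Spec.map _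
      rw [← Spec.map_comp, ← Spec.map_comp]
      congr 1
      ext y
      show σ (frobHom k L y) = frobHom k L (σ y)
      rw [frobHom_apply, frobHom_apply, map_pow]
    show powM (frM k k L) n ≫ (σ • x) = σ • x
    rw [GalTw.pts_smul_def, ← Category.assoc, powM_comm _ _ _ hc.symm, Category.assoc, hx]

end Galois

end Groth.Agent.Stk19b.Count
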