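import Groth.Agent.Stk19b.Count.Pts
import Mathlib.AlgebraicGeometry.Sites.Fpqc

/-! Descent of morphisms out of reduced schemes over a field, checked on geometric points. -/

set_option autoImplicit false
set_option linter.style.haveILetI false
set_option backward.isDefEq.respectTransparency false
set_option backward.isDefEq.respectTransparency.types false

universe u

open CategoryTheory CategoryTheory.Limits AlgebraicGeometry

namespace Groth.Agent.Stk19b.Count

variable {k : Type u} [Field k] (L : Type u) [Field L] [Algebra k L] [IsAlgClosed L]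

/-- A morphism constant on the fibres of geometric points descends along an fpqc covering with reduced kernel
pair. -/
theorem existsUnique_desc {P' P Y : Over (Spec (CommRingCat.of k))} (q : P' ⟶ P) [Flat q.left]
    [Surjective q.left] [QuasiCompact q.left] [LocallyOfFiniteType P'.hom] [LocallyOfFiniteType q.left]
    [IsReduced (pullback q.left q.left)] (g : P' ⟶ Y)
    (h : ∀ w w' : SGA7.pt (K := k) L ⟶ P', w ≫ q = w' ≫ q → w ≫ g = w' ≫ g) :
    ∃! m : P ⟶ Y, q ≫ m = g := by
  let D : Over (Spec (CommRingCat.of k)) := Over.mk (pullback.fst q.left q.left ≫ P'.hom)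
  haveI : LocallyOfFiniteType D.hom := inferInstanceAs (LocallyOfFiniteType (_ ≫ _))
  haveI : IsReduced D.left := ‹IsReduced (pullback q.left q.left)›
  let d₁ : D ⟶ P' := Over.homMk (pullback.fst q.left q.left) rfl
  let d₂ : D ⟶ P' := Over.homMk (pullback.snd q.left q.left) (by
    show _ = pullback.fst q.left q.left ≫ P'.hom
    rw [← Over.w q, pullback.condition_assoc])
  have hd : d₁ ≫ q = d₂ ≫ q := Over.OverMorphism.ext pullback.condition
  have hg : d₁ ≫ g = d₂ ≫ g := hom_ext_of_points L _ _ fun p => by
    rw [← Category.assoc, ← Category.assoc]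
    exact h _ _ (by rw [Category.assoc, Category.assoc, hd])
  haveI : Epi q.left := Flat.epi_of_flat_of_surjective _
  have key : ∀ {Z : Scheme.{u}} (g₁ g₂ : Z ⟶ P'.left), g₁ ≫ q.left = g₂ ≫ q.left →
      g₁ ≫ g.left = g₂ ≫ g.left := fun g₁ g₂ e => by
    have h0 : pullback.fst q.left q.left ≫ g.left = pullback.snd q.left q.left ≫ g.left :=
      congrArg (fun t : D ⟶ Y => t.left) hg
    have := congrArg (fun t => pullback.lift g₁ g₂ e ≫ t) h0
    simpa using this
  have hw : EffectiveEpi.desc q.left g.left key ≫ Y.hom = P.hom := by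
    rw [← cancel_epi q.left, EffectiveEpi.fac_assoc, Over.w, Over.w]
  refine ⟨Over.homMk (EffectiveEpi.desc q.left g.left key) hw, Over.OverMorphism.ext (EffectiveEpi.fac q.left g.left key), ?_⟩
  intro m hm
  refine Over.OverMorphism.ext ((cancel_epi q.left).1 ?_)
  show q.left ≫ m.left = q.left ≫ EffectiveEpi.desc q.left g.left key
  rw [EffectiveEpi.fac]
  exact congrArg (fun t : P' ⟶ Y => t.left) hm

end Groth.Agent.Stk19b.Count
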