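import Groth.Agent.Stk19b.Count.Level
import Groth.Agent.AbSchLib.SmoothReduced

/-! Descent of morphisms along a level, given invariance under the twisted Frobenius. -/

set_option autoImplicit false
set_option linter.style.haveILetI false
set_option linter.unusedSectionVars false
set_option backward.isDefEq.respectTransparency false
set_option backward.isDefEq.respectTransparency.types false

universe u

open CategoryTheory CategoryTheory.Limits AlgebraicGeometry

namespace Groth.Agent.Stk19b.Count

variable {k : Type u} [Field k] {k' : Type u} [Field k'] [Finite k'] [Algebra k k']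
  (L : Type u) [Field L] [Algebra k L] [IsAlgClosed L] [Algebra k' L] [IsScalarTower k k' L]
  {E : Type u} [Field E] [Algebra k E] [Algebra k' E] [IsScalarTower k k' E] [Finite E]

theorem etale_incl : Etale (incl k k' E).left ∧ Surjective (incl k k' E).left ∧ QuasiCompact (incl k k' E).left := by
  haveI : Module.Finite k' E := Module.Finite.of_finite
  haveI : Algebra.FinitePresentation k' E := Algebra.FinitePresentation.of_finiteType.1 inferInstance
  haveI : Algebra.FormallyEtale k' E := Algebra.FormallyEtale.of_isSeparable _ _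
  have h : Etale (Spec.map (CommRingCat.ofHom (algebraMap k' E))) := by
    rw [HasRingHomProperty.Spec_iff (P := @Etale)]
    exact RingHom.etale_algebraMap.2 ⟨inferInstance, inferInstance⟩
  haveI : IsAffine (SGA7.pt (K := k) E).left := inferInstanceAs (IsAffine (Spec _))
  haveI : IsAffine (SGA7.pt (K := k) k').left := inferInstanceAs (IsAffine (Spec _))
  exact ⟨h, ⟨fun x => ⟨IsLocalRing.closedPoint E, Subsingleton.elim (α := PrimeSpectrum k') _ _⟩⟩, inferInstance⟩

variable {n : ℕ} (hE : Nat.card E = Nat.card k' ^ n)
include hE L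

/-- A morphism invariant under the twisted Frobenius of a level descends. -/
theorem existsUnique_desc_level {Q' Q Y : Over (Spec (CommRingCat.of k))} {q : Q' ⟶ Q}
    {s : Q' ⟶ SGA7.pt (K := k) E} {r : Q ⟶ SGA7.pt (K := k) k'} (sq : IsPullback q s r (incl k k' E))
    [Smooth Q'.hom] (Ψ : Q' ⟶ Q') (h1 : Ψ ≫ q = q) (h2 : Ψ ≫ s = s ≫ frM k k' E) (g : Q' ⟶ Y)
    (hg : Ψ ≫ g = g) : ∃! m, q ≫ m = g := by
  obtain ⟨he, hs, hqc⟩ := etale_incl (k := k) (k' := k') (E := E)
  have sq' := sq.map (Over.forget _)
  haveI : Etale q.left := MorphismProperty.of_isPullback sq'.flip he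
  haveI : Surjective q.left := MorphismProperty.of_isPullback sq'.flip hs
  haveI : QuasiCompact q.left := MorphismProperty.of_isPullback sq'.flip hqc
  haveI : IsReduced Q'.left := Groth.Agent.AbSchLib.isReduced_of_smooth Q'.hom
  haveI : IsReduced (pullback q.left q.left) :=
    Groth.Agent.AbSchLib.isReduced_of_smooth (pullback.fst q.left q.left)
  refine existsUnique_desc L q g fun w w' h => ?_
  obtain ⟨i, hi⟩ := exists_powM_of_base (k' := k') hE (w ≫ s) (w' ≫ s) (by
    rw [Category.assoc, Category.assoc, ← sq.w, ← Category.assoc, ← Category.assoc, h])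
  have e : w' = w ≫ powM Ψ i := by
    apply sq.hom_ext
    · rw [Category.assoc, powM_fix _ _ h1, h]
    · rw [Category.assoc, powM_comm _ _ _ h2, ← Category.assoc, hi]
  rw [e, Category.assoc, powM_fix _ _ hg]

/-- Morphisms out of the base agree when they agree on the level. -/
theorem epi_level {Q' Q Y : Over (Spec (CommRingCat.of k))} {q : Q' ⟶ Q}
    {s : Q' ⟶ SGA7.pt (K := k) E} {r : Q ⟶ SGA7.pt (K := k) k'} (sq : IsPullback q s r (incl k k' E))
    (m m' : Q ⟶ Y) (h : q ≫ m = q ≫ m') : m = m' := by
  obtain ⟨he, hs, hqc⟩ := etale_incl (k := k) (k' := k') (E := E)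
  have sq' := sq.map (Over.forget _)
  haveI : Etale q.left := MorphismProperty.of_isPullback sq'.flip he
  haveI : Surjective q.left := MorphismProperty.of_isPullback sq'.flip hs
  haveI : QuasiCompact q.left := MorphismProperty.of_isPullback sq'.flip hqc
  haveI : Epi q.left := Flat.epi_of_flat_of_surjective _
  exact Over.OverMorphism.ext ((cancel_epi q.left).1 (congrArg (fun t : Q' ⟶ Y => t.left) h))

end Groth.Agent.Stk19b.Count
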