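import Groth.Agent.Stk19b.Count.Descent
import Mathlib.FieldTheory.Finite.Extension

/-! Levels of geometric points over a finite field: Frobenius, periods, norms, finite extensions. -/

set_option autoImplicit false
set_option linter.style.haveILetI false
set_option linter.unusedSectionVars false
set_option backward.isDefEq.respectTransparency false
set_option backward.isDefEq.respectTransparency.types false

universe u

open CategoryTheory CategoryTheory.Limits AlgebraicGeometry MonObj

namespace Groth.Agent.Stk19b.Count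

/-- Iterates of an endomorphism. -/
def powM {C : Type*} [Category C] {X : C} (f : X ⟶ X) : ℕ → (X ⟶ X)
  | 0 => 𝟙 X
  | n + 1 => f ≫ powM f n

theorem powM_succ' {C : Type*} [Category C] {X : C} (f : X ⟶ X) (n : ℕ) : powM f (n + 1) = powM f n ≫ f := by
  induction n with
  | zero => simp [powM]
  | succ n ih =>
    show f ≫ powM f (n + 1) = (f ≫ powM f n) ≫ f
    rw [ih, Category.assoc]

theorem powM_add {C : Type*} [Category C] {X : C} (f : X ⟶ X) (m n : ℕ) : powM f (m + n) = powM f m ≫ powM f n := by
  induction m with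
  | zero => simp [powM]
  | succ m ih => rw [Nat.succ_add, powM, ih, powM, Category.assoc]

theorem powM_comm {C : Type*} [Category C] {X Y : C} (f : X ⟶ X) (g : Y ⟶ Y) (r : X ⟶ Y) (h : f ≫ r = r ≫ g)
    (n : ℕ) : powM f n ≫ r = r ≫ powM g n := by
  induction n with
  | zero => simp [powM]
  | succ n ih => rw [powM, powM, Category.assoc, ih, ← Category.assoc, h, Category.assoc]

theorem powM_mul_fix {C : Type*} [Category C] {X Y : C} (f : X ⟶ X) (p : X ⟶ Y) (d : ℕ)
    (h : powM f d ≫ p = p) (j : ℕ) : powM f (d * j) ≫ p = p := by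
  induction j with
  | zero => simp [powM]
  | succ j ih => rw [Nat.mul_succ, powM_add, Category.assoc, h, ih]

theorem powM_fix {C : Type*} [Category C] {X Y : C} (f : X ⟶ X) (p : X ⟶ Y) (h : f ≫ p = p) (j : ℕ) :
    powM f j ≫ p = p := by
  induction j with
  | zero => simp [powM]
  | succ j ih => rw [powM, Category.assoc, ih, h]

variable (k : Type u) [Field k] (k' : Type u) [Field k'] [Finite k'] [Algebra k k']
  (L : Type u) [Field L] [Algebra k L] [Algebra k' L] [IsScalarTower k k' L]

/-- The `#k'`-power map on an extension. -/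
noncomputable def frobHom (E : Type u) [Field E] [Algebra k' E] : E →+* E :=
  letI := Fintype.ofFinite k'
  (FiniteField.frobeniusAlgHom k' E).toRingHom

theorem frobHom_apply (E : Type u) [Field E] [Algebra k' E] (x : E) : frobHom k' E x = x ^ Nat.card k' := by
  letI := Fintype.ofFinite k'
  rw [Nat.card_eq_fintype_card]
  show FiniteField.frobeniusAlgHom k' E x = _
  rw [FiniteField.coe_frobeniusAlgHom]

/-- The `#k'`-Frobenius of the spectrum of an extension of `k'`, as a morphism over `k`. -/
noncomputable def frM (E : Type u) [Field E] [Algebra k E] [Algebra k' E] [IsScalarTower k k' E] :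
    SGA7.pt (K := k) E ⟶ SGA7.pt (K := k) E :=
  Over.homMk (Spec.map (CommRingCat.ofHom (frobHom k' E))) (by
    show _ ≫ Spec.map _ = Spec.map _
    rw [← Spec.map_comp]
    congr 1
    ext a
    show frobHom k' E (algebraMap k E a) = algebraMap k E a
    letI := Fintype.ofFinite k'
    rw [IsScalarTower.algebraMap_apply k k' E, frobHom_apply, ← map_pow, Nat.card_eq_fintype_card,
      FiniteField.pow_card])

/-- The morphism of spectra of a subextension. -/
noncomputable def incl (E E' : Type u) [Field E] [Field E'] [Algebra k E] [Algebra k E'] [Algebra E E']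
    [IsScalarTower k E E'] : SGA7.pt (K := k) E' ⟶ SGA7.pt (K := k) E :=
  Over.homMk (Spec.map (CommRingCat.ofHom (algebraMap E E'))) (by
    show _ ≫ Spec.map _ = Spec.map _
    rw [← Spec.map_comp]
    congr 1
    ext a
    exact (IsScalarTower.algebraMap_apply k E E' a).symm)

theorem incl_left (E E' : Type u) [Field E] [Field E'] [Algebra k E] [Algebra k E'] [Algebra E E']
    [IsScalarTower k E E'] : (incl k E E').left = Spec.map (CommRingCat.ofHom (algebraMap E E')) := rfl

variable (E : Type u) [Field E] [Algebra k E] [Algebra k' E] [IsScalarTower k k' E] [Algebra E L]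
  [IsScalarTower k E L] [IsScalarTower k' E L]

theorem frM_incl : frM k k' L ≫ incl k E L = incl k E L ≫ frM k k' E := by
  apply Over.OverMorphism.ext
  show Spec.map _ ≫ Spec.map _ = Spec.map _ ≫ Spec.map _
  rw [← Spec.map_comp, ← Spec.map_comp]
  congr 1
  ext a
  show frobHom k' L (algebraMap E L a) = algebraMap E L (frobHom k' E a)
  rw [frobHom_apply, frobHom_apply, map_pow]

theorem frM_inclBase : frM k k' E ≫ incl k k' E = incl k k' E := by
  apply Over.OverMorphism.ext
  show Spec.map _ ≫ Spec.map _ = Spec.map _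
  rw [← Spec.map_comp]
  congr 1
  ext a
  letI := Fintype.ofFinite k'
  show frobHom k' E (algebraMap k' E a) = algebraMap k' E a
  rw [frobHom_apply, ← map_pow, Nat.card_eq_fintype_card, FiniteField.pow_card]

theorem incl_comp : incl k E L ≫ incl k k' E = incl k k' L := by
  apply Over.OverMorphism.ext
  show Spec.map _ ≫ Spec.map _ = Spec.map _
  rw [← Spec.map_comp]
  congr 1
  ext a
  exact (IsScalarTower.algebraMap_apply k' E L a).symm

theorem powM_frM_left (n : ℕ) :
    ∃ π : E →+* E, (∀ x, π x = x ^ (Nat.card k' ^ n)) ∧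
      (powM (frM k k' E) n).left = Spec.map (CommRingCat.ofHom π) := by
  induction n with
  | zero => exact ⟨RingHom.id E, fun x => by simp, by simp [powM]⟩
  | succ n ih =>
    obtain ⟨π, hπ, he⟩ := ih
    refine ⟨(frobHom k' E).comp π, fun x => by
      rw [RingHom.comp_apply, hπ, frobHom_apply, ← pow_mul, ← pow_succ], ?_⟩
    show (frM k k' E).left ≫ (powM (frM k k' E) n).left = _
    rw [he]
    show Spec.map _ ≫ Spec.map _ = _
    rw [← Spec.map_comp]
    rfl

section Level

variable {k k' L E}
variable [Finite E] {n : ℕ} (hE : Nat.card E = Nat.card k' ^ n)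
include hE

theorem powM_frM_eq_id : powM (frM k k' E) n = 𝟙 _ := by
  obtain ⟨π, hπ, he⟩ := powM_frM_left k k' E n
  apply Over.OverMorphism.ext
  rw [he]
  show _ = 𝟙 (Spec (CommRingCat.of E))
  rw [← Spec.map_id]
  congr 1
  ext x
  show π x = x
  haveI := Fintype.ofFinite E
  rw [hπ, ← hE, Nat.card_eq_fintype_card, FiniteField.pow_card]

/-- Geometric points defined at level `n` are the ones fixed by the `n`-th power of Frobenius. -/
theorem existsUnique_level {X : Over (Spec (CommRingCat.of k))} (p : SGA7.pt (K := k) L ⟶ X)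
    (hp : powM (frM k k' L) n ≫ p = p) : ∃! p₁ : SGA7.pt (K := k) E ⟶ X, incl k E L ≫ p₁ = p := by
  obtain ⟨π, hπ, he⟩ := powM_frM_left k k' L n
  exact exists_fac_of_frob E p _ π (fun x => by rw [hπ, hE]) he hp _ (incl_left k E L)

theorem powM_fix_of_level {X : Over (Spec (CommRingCat.of k))} (p₁ : SGA7.pt (K := k) E ⟶ X) :
    powM (frM k k' L) n ≫ incl k E L ≫ p₁ = incl k E L ≫ p₁ := by
  rw [← Category.assoc, powM_comm _ _ _ (frM_incl k k' L E), powM_frM_eq_id hE, Category.comp_id]

theorem cancel_level {X : Over (Spec (CommRingCat.of k))} (f g : SGA7.pt (K := k) E ⟶ X)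
    (h : incl k E L ≫ f = incl k E L ≫ g) : f = g :=
  cancel_pt E (incl k E L) f g h

omit [Algebra E L] [IsScalarTower k E L] [IsScalarTower k' E L] in
/-- Two geometric points of the level over the same geometric point of the base differ by a power of Frobenius. -/
theorem exists_powM_of_base (e e' : SGA7.pt (K := k) L ⟶ SGA7.pt (K := k) E)
    (he : e' ≫ incl k k' E = e ≫ incl k k' E) : ∃ i, e' = e ≫ powM (frM k k' E) i := by
  obtain ⟨φ, hφ⟩ := Spec.map_surjective e.left
  obtain ⟨ψ, hψ⟩ := Spec.map_surjective e'.left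
  have hc : ∀ a, ψ.hom (algebraMap k' E a) = φ.hom (algebraMap k' E a) := by
    have : CommRingCat.ofHom (algebraMap k' E) ≫ ψ = CommRingCat.ofHom (algebraMap k' E) ≫ φ := by
      apply Spec.map_injective
      rw [Spec.map_comp, Spec.map_comp, hψ, hφ]
      exact congrArg (fun t : SGA7.pt (K := k) L ⟶ SGA7.pt (K := k) k' => t.left) he
    exact fun a => congrArg (fun t => t.hom a) this
  haveI := Fintype.ofFinite E
  letI : Algebra E L := φ.hom.toAlgebra
  have hr : ∀ x, ψ.hom x ∈ Set.range (algebraMap E L) := fun x => TorsorPoints.mem_range_of_pow_eq _ (by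
    rw [← map_pow, Nat.card_eq_fintype_card, FiniteField.pow_card])
  choose f hf using hr
  have hinj : Function.Injective (algebraMap E L) := (algebraMap E L).injective
  let σ : E →ₐ[k'] E :=
    { toFun := f
      map_one' := hinj (by simp [hf])
      map_mul' := fun a b => hinj (by simp [hf])
      map_zero' := hinj (by simp [hf])
      map_add' := fun a b => hinj (by simp [hf])
      commutes' := fun a => hinj (by rw [hf, hc]; rfl) }
  letI := Fintype.ofFinite k'
  haveI : Module.Finite k' E := Module.Finite.of_finite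
  obtain ⟨i, hi⟩ := (FiniteField.bijective_frobeniusAlgHom_pow k' E).2 σ
  refine ⟨i.1, Over.OverMorphism.ext ?_⟩
  obtain ⟨π, hπ, hπe⟩ := powM_frM_left k k' E i.1
  rw [Over.comp_left, hπe, ← hψ, ← hφ, ← Spec.map_comp]
  congr 1
  ext x
  show ψ.hom x = φ.hom (π x)
  rw [hπ, ← hf x]
  show φ.hom (σ x) = _
  congr 1
  rw [← hi, Nat.card_eq_fintype_card]
  show (FiniteField.frobeniusAlgHom k' E ^ i.1) x = _
  induction i.1 with
  | zero => simp
  | succ j ih =>
    rw [pow_succ', AlgHom.mul_apply, ih, FiniteField.coe_frobeniusAlgHom]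
    show (x ^ _) ^ _ = _
    rw [← pow_mul, ← pow_succ]

end Level

/-- A level of every positive degree. -/
theorem exists_level [IsAlgClosed L] (n : ℕ) (hn : 0 < n) :
    ∃ E : IntermediateField k' L, Finite E ∧ Nat.card E = Nat.card k' ^ n := by
  haveI : NeZero n := ⟨hn.ne'⟩
  obtain ⟨p, hp⟩ := CharP.exists k'
  haveI : Fact p.Prime := ⟨CharP.char_is_prime k' p⟩
  let ψ : FiniteField.Extension k' p n →ₐ[k'] L := IsAlgClosed.lift
  let e : FiniteField.Extension k' p n ≃ ψ.fieldRange := (AlgEquiv.ofInjectiveField ψ).toEquiv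
  exact ⟨ψ.fieldRange, Finite.of_equiv _ e, by rw [← Nat.card_congr e, FiniteField.natCard_extension]⟩

/-- Every geometric point has a period. -/
theorem exists_period [Finite k] [Algebra.IsAlgebraic k L] {X : Over (Spec (CommRingCat.of k))}
    [LocallyOfFiniteType X.hom] (p : SGA7.pt (K := k) L ⟶ X) :
    ∃ d, 0 < d ∧ powM (frM k k' L) d ≫ p = p := by
  obtain ⟨E₀, hE₀, hp⟩ := exists_finite_level p
  haveI : Finite E₀ := Module.finite_of_finite k
  haveI := Fintype.ofFinite E₀
  haveI := Fintype.ofFinite k
  letI := Fintype.ofFinite k'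
  haveI : Module.Finite k k' := Module.Finite.of_finite
  let m := Module.finrank k E₀
  obtain ⟨p₁, hp₁⟩ := hp (incl k E₀ L) (incl_left k E₀ L)
  refine ⟨m, Module.finrank_pos, ?_⟩
  obtain ⟨π, hπ, he⟩ := powM_frM_left k k' L m
  have e : powM (frM k k' L) m ≫ incl k E₀ L = incl k E₀ L := by
    apply Over.OverMorphism.ext
    rw [Over.comp_left, he, incl_left, ← Spec.map_comp]
    congr 1
    ext x
    show π (algebraMap E₀ L x) = algebraMap E₀ L x
    rw [hπ, ← map_pow, Module.natCard_eq_pow_finrank (K := k) (V := k'), ← pow_mul, mul_comm, pow_mul,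
      ← Module.natCard_eq_pow_finrank (K := k) (V := E₀), Nat.card_eq_fintype_card, FiniteField.pow_card_pow]
  rw [← hp₁, ← Category.assoc, e]

/-- The norms of a geometric point of a group. -/
noncomputable def normM {G : Over (Spec (CommRingCat.of k))} [MonObj G] (a : SGA7.pt (K := k) L ⟶ G) :
    ℕ → (SGA7.pt (K := k) L ⟶ G)
  | 0 => 1
  | n + 1 => (frM k k' L ≫ normM a n) * a

theorem normM_add {G : Over (Spec (CommRingCat.of k))} [MonObj G] (a : SGA7.pt (K := k) L ⟶ G) (i j : ℕ) :
    normM k k' L a (i + j) = (powM (frM k k' L) j ≫ normM k k' L a i) * normM k k' L a j := by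
  induction j with
  | zero => simp [normM, powM]
  | succ j ih => rw [Nat.add_succ, normM, ih, MonObj.comp_mul, ← Category.assoc, normM, powM, _root_.mul_assoc]

theorem powM_comp_normM {G : Over (Spec (CommRingCat.of k))} [MonObj G] (a : SGA7.pt (K := k) L ⟶ G) (d : ℕ)
    (h : powM (frM k k' L) d ≫ a = a) (i : ℕ) :
    powM (frM k k' L) d ≫ normM k k' L a i = normM k k' L a i := by
  induction i with
  | zero => exact MonObj.comp_one _
  | succ i ih =>
    rw [normM, MonObj.comp_mul, h, ← Category.assoc, ← powM_succ', powM, Category.assoc, ih]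

/-- Norms become trivial. -/
theorem exists_norm_one [Finite k] [IsAlgClosed L] [Algebra.IsAlgebraic k L] {G : Over (Spec (CommRingCat.of k))} [GrpObj G]
    [IsAffineHom G.hom] [LocallyOfFiniteType G.hom] (a : SGA7.pt (K := k) L ⟶ G) :
    ∃ d, 0 < d ∧ powM (frM k k' L) d ≫ a = a ∧ ∀ j, normM k k' L a (d * j) = 1 := by
  obtain ⟨d, hd, hfix⟩ := exists_period k k' L a
  obtain ⟨E, hEf, hE⟩ := exists_level k' L d hd
  haveI : IsScalarTower k E L := IsScalarTower.of_algebraMap_eq fun x => rfl
  let M : (SGA7.pt (K := k) E ⟶ G) := (existsUnique_level hE _ (powM_comp_normM k k' L a d hfix d)).choose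
  have hM : incl k E L ≫ M = normM k k' L a d :=
    (existsUnique_level hE _ (powM_comp_normM k k' L a d hfix d)).choose_spec.1
  haveI : IsAffine G.left := isAffine_of_isAffineHom G.hom
  haveI : Finite (SGA7.pt (K := k) E ⟶ G) := by
    obtain ⟨φ, hφ⟩ := Spec.map_surjective (G.left.isoSpec.inv ≫ G.hom)
    letI := φ.hom.toAlgebra
    haveI : Algebra.FiniteType k Γ(G.left, ⊤) := by
      have : LocallyOfFiniteType (Spec.map φ) := by rw [hφ]; infer_instance
      exact (HasRingHomProperty.Spec_iff (P := @LocallyOfFiniteType)).1 this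
    obtain ⟨s, hs⟩ := ‹Algebra.FiniteType k Γ(G.left, ⊤)›.out
    choose β hβ using fun p : SGA7.pt (K := k) E ⟶ G => Spec.map_surjective (p.left ≫ G.left.isoSpec.hom)
    have hc : ∀ p c, (β p).hom (φ.hom c) = algebraMap k E c := fun p c => by
      have : φ ≫ β p = CommRingCat.ofHom (algebraMap k E) := Spec.map_injective (by
        rw [Spec.map_comp, hβ, hφ, Category.assoc, Iso.hom_inv_id_assoc]
        exact Over.w p)
      exact congrArg (fun t => t.hom c) this
    let g : (SGA7.pt (K := k) E ⟶ G) → (Γ(G.left, ⊤) →ₐ[k] E) := fun p => { (β p).hom with commutes' := hc p }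
    refine Finite.of_injective (fun p => fun x : (s : Set Γ(G.left, ⊤)) => g p x.1) fun p p' h => ?_
    have hg : g p = g p' := AlgHom.ext_of_adjoin_eq_top hs fun x hx => congrFun h ⟨x, hx⟩
    have : β p = β p' := CommRingCat.hom_ext (congrArg AlgHom.toRingHom hg)
    exact Over.OverMorphism.ext ((cancel_mono G.left.isoSpec.hom).1 (by rw [← hβ, ← hβ, this]))
  obtain ⟨j, hj, hMj⟩ := isOfFinOrder_iff_pow_eq_one.1 (isOfFinOrder_of_finite M)
  have hmul : ∀ i, normM k k' L a (d * i) = (incl k E L ≫ M) ^ i := by
    intro i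
    induction i with
    | zero => simp [normM]
    | succ i ih =>
      rw [Nat.mul_succ, normM_add, ih, pow_succ, hM]
      congr 1
      rw [← hM, MonObj.comp_pow, powM_fix_of_level hE]
  refine ⟨d * j, Nat.mul_pos hd hj, powM_mul_fix _ _ _ hfix j, fun i => ?_⟩
  rw [_root_.mul_assoc, hmul, pow_mul, ← MonObj.comp_pow, hMj, MonObj.comp_one, one_pow]

end Groth.Agent.Stk19b.Count
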