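import Groth.Agent.Stk19b.TorsorPoints
import Mathlib.AlgebraicGeometry.Morphisms.Immersion
import Mathlib.AlgebraicGeometry.Morphisms.Separated

/-! Geometric points over a field: morphisms out of reduced schemes are determined by them, every point is
defined over a finite subextension, rational points are the Frobenius-fixed geometric points. -/

set_option autoImplicit false
set_option linter.style.haveILetI false
set_option backward.isDefEq.respectTransparency false
set_option backward.isDefEq.respectTransparency.types false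

universe u

open CategoryTheory CategoryTheory.Limits AlgebraicGeometry

namespace Groth.Agent.Stk19b.Count

variable {k : Type u} [Field k] {L : Type u} [Field L] [Algebra k L] [IsAlgClosed L]

/-- A closed point of a scheme locally of finite type over `k` is the image of a geometric point. -/
theorem exists_point_at {X : Over (Spec (CommRingCat.of k))} [LocallyOfFiniteType X.hom] (x : X.left)
    (hx : IsClosed ({x} : Set X.left)) :
    ∃ p : SGA7.pt (K := k) L ⟶ X, Set.range p.left = {x} := by
  obtain ⟨φ, hφ⟩ := Spec.map_surjective (X.left.fromSpecResidueField x ≫ X.hom)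
  letI := φ.hom.toAlgebra
  haveI : IsClosedImmersion (X.left.fromSpecResidueField x) :=
    isClosed_singleton_iff_isClosedImmersion.1 hx
  haveI : Algebra.FiniteType k (X.left.residueField x) := by
    have : LocallyOfFiniteType (Spec.map φ) := by rw [hφ]; infer_instance
    exact (HasRingHomProperty.Spec_iff (P := @LocallyOfFiniteType)).1 this
  haveI : Module.Finite k (X.left.residueField x) := finite_of_finite_type_of_isJacobsonRing k _
  let ψ : X.left.residueField x →ₐ[k] L := IsAlgClosed.lift
  refine ⟨Over.homMk (Spec.map (CommRingCat.ofHom ψ.toRingHom) ≫ X.left.fromSpecResidueField x) ?_, ?_⟩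
  · rw [Category.assoc, ← hφ, ← Spec.map_comp]
    show Spec.map _ = Spec.map _
    congr 1
    ext a
    exact ψ.commutes a
  · simp only [Over.homMk_left]
    have key : ∀ q, (Spec.map (CommRingCat.ofHom ψ.toRingHom) ≫ X.left.fromSpecResidueField x) q = x := fun q => by
      exact Scheme.fromSpecResidueField_apply (X := X.left) x ((Spec.map (CommRingCat.ofHom ψ.toRingHom)) q)
    refine Set.eq_singleton_iff_unique_mem.2 ⟨⟨IsLocalRing.closedPoint L, key _⟩, ?_⟩
    rintro _ ⟨q, rfl⟩
    exact key q

/-- A locally closed subset of a Jacobson space containing all closed points is everything. -/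
theorem eq_univ_of_isLocallyClosed {Z : Type*} [TopologicalSpace Z] [JacobsonSpace Z] {E : Set Z}
    (hE : IsLocallyClosed E) (h : closedPoints Z ⊆ E) : E = Set.univ := by
  obtain ⟨U, C, hU, hC, rfl⟩ := hE
  have hC' : C = Set.univ := by
    rw [← Set.univ_subset_iff, ← closure_closedPoints]
    exact hC.closure_subset_iff.2 (h.trans Set.inter_subset_right)
  have hU' : U = Set.univ := by
    by_contra hne
    obtain ⟨c, hcU, hc⟩ := nonempty_inter_closedPoints (Set.nonempty_compl.2 hne) hU.isClosed_compl.isLocallyClosed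
    exact hcU (h hc).1
  rw [hC', hU', Set.inter_univ]

variable (L) in
/-- Morphisms out of a reduced scheme locally of finite type over `k` are determined by geometric points. -/
theorem hom_ext_of_points {X Y : Over (Spec (CommRingCat.of k))} [IsReduced X.left] [LocallyOfFiniteType X.hom]
    (f g : X ⟶ Y) (h : ∀ p : SGA7.pt (K := k) L ⟶ X, p ≫ f = p ≫ g) : f = g := by
  let d := pullback.lift f.left g.left (by rw [Over.w, Over.w] : f.left ≫ Y.hom = g.left ≫ Y.hom)
  let e := pullback.fst d (pullback.diagonal Y.hom)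
  haveI : JacobsonSpace X.left := LocallyOfFiniteType.jacobsonSpace X.hom
  haveI : IsImmersion e := MorphismProperty.pullback_fst _ _ inferInstance
  have hfac : ∀ p : SGA7.pt (K := k) L ⟶ X, Set.range p.left ⊆ Set.range e := by
    intro p
    let l : (SGA7.pt (K := k) L).left ⟶ pullback d (pullback.diagonal Y.hom) :=
      pullback.lift p.left (p.left ≫ f.left) (by
        apply pullback.hom_ext
        · simp [d]
        · simp only [d, Category.assoc, pullback.lift_snd, pullback.diagonal_snd, Category.comp_id]
          exact (congrArg (fun t : SGA7.pt (K := k) L ⟶ Y => t.left) (h p)).symm)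
    rintro _ ⟨q, rfl⟩
    exact ⟨l q, by rw [← Scheme.Hom.comp_apply, pullback.lift_fst]⟩
  have hsurj : Surjective e := by
    refine ⟨fun x => ?_⟩
    have := eq_univ_of_isLocallyClosed e.isLocallyClosed_range (fun c hc => ?_)
    · exact (Set.eq_univ_iff_forall.1 this) x
    · obtain ⟨p, hp⟩ := exists_point_at (L := L) c hc
      exact hfac p (hp.symm ▸ rfl)
  haveI : IsClosedImmersion e := IsClosedImmersion.of_isPreimmersion e (by rw [Set.range_eq_univ.2 hsurj.surj]; exact isClosed_univ)
  haveI := isIso_of_isClosedImmersion_of_surjective e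
  have w : e ≫ d = pullback.snd d (pullback.diagonal Y.hom) ≫ pullback.diagonal Y.hom := pullback.condition
  have w1 := congrArg (fun t => t ≫ pullback.fst Y.hom Y.hom) w
  have w2 := congrArg (fun t => t ≫ pullback.snd Y.hom Y.hom) w
  simp only [d, Category.assoc, pullback.lift_fst, pullback.lift_snd, pullback.diagonal_fst,
    pullback.diagonal_snd, Category.comp_id] at w1 w2
  exact Over.OverMorphism.ext ((cancel_epi e).1 (w1.trans w2.symm))

omit [IsAlgClosed L] in
/-- A morphism to a scheme out of the spectrum of a field extension is determined by its composite with a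
further extension. -/
theorem cancel_pt (k₁ : Type u) [Field k₁] [Algebra k k₁] [Algebra k₁ L] [IsScalarTower k k₁ L]
    {X : Over (Spec (CommRingCat.of k))} (ι : SGA7.pt (K := k) L ⟶ SGA7.pt (K := k) k₁)
    (f g : SGA7.pt (K := k) k₁ ⟶ X) (h : ι ≫ f = ι ≫ g) : f = g := by
  refine Over.OverMorphism.ext ?_
  have hs : Surjective ι.left := ⟨fun x => ⟨IsLocalRing.closedPoint L, Subsingleton.elim (α := PrimeSpectrum k₁) _ _⟩⟩
  haveI : Flat ι.left := by
    obtain ⟨φ, hφ⟩ := Spec.map_surjective ι.left
    rw [← hφ, HasRingHomProperty.Spec_iff (P := @Flat)]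
    letI := φ.hom.toAlgebra
    exact (inferInstance : Module.Flat k₁ L)
  haveI : IsAffine (SGA7.pt (K := k) L).left := inferInstanceAs (IsAffine (Spec _))
  haveI : IsAffine (SGA7.pt (K := k) k₁).left := inferInstanceAs (IsAffine (Spec _))
  haveI := hs
  haveI : QuasiCompact ι.left := inferInstance
  haveI : Epi ι.left := Flat.epi_of_flat_of_surjective _
  exact (cancel_epi ι.left).1 (congrArg (fun t : SGA7.pt (K := k) L ⟶ X => t.left) h)

variable (k) in
/-- The spectrum of an algebra, over `k`. -/
noncomputable abbrev specA (A : Type u) [CommRing A] [Algebra k A] : Over (Spec (CommRingCat.of k)) :=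
  Over.mk (Spec.map (CommRingCat.ofHom (algebraMap k A)))

omit [IsAlgClosed L] in
/-- An affine chart at a geometric point, without finiteness. -/
theorem exists_chart' {X : Over (Spec (CommRingCat.of k))} (p : SGA7.pt (K := k) L ⟶ X) :
    ∃ (A : Type u) (_ : CommRing A) (_ : Algebra k A) (j : specA k A ⟶ X) (β : A →ₐ[k] L),
      IsOpenImmersion j.left ∧ p.left = Spec.map (CommRingCat.ofHom β.toRingHom) ≫ j.left := by
  obtain ⟨U, hU, hxU, -⟩ := exists_isAffineOpen_mem_and_subset (x := p.left (IsLocalRing.closedPoint L))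
    (U := ⊤) trivial
  obtain ⟨φ, hφ⟩ := Spec.map_surjective (hU.fromSpec ≫ X.hom)
  letI := φ.hom.toAlgebra
  have hsub : Set.range p.left ⊆ Set.range hU.fromSpec := by
    rw [hU.range_fromSpec]
    rintro _ ⟨q, rfl⟩
    obtain rfl : q = IsLocalRing.closedPoint L := (inferInstance : Subsingleton (PrimeSpectrum L)).elim q _
    exact hxU
  obtain ⟨β, hβ⟩ := Spec.map_surjective (IsOpenImmersion.lift hU.fromSpec p.left hsub)
  have hβp : Spec.map β ≫ hU.fromSpec = p.left := by rw [hβ, IsOpenImmersion.lift_fac]
  have hc : φ ≫ β = CommRingCat.ofHom (algebraMap k L) := Spec.map_injective (by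
    rw [Spec.map_comp, hφ, reassoc_of% hβp]
    exact Over.w p)
  exact ⟨Γ(X.left, U), inferInstance, inferInstance, Over.homMk hU.fromSpec hφ.symm,
    { β.hom with commutes' := fun a => congrArg (fun t => t.hom a) hc },
    (inferInstance : IsOpenImmersion hU.fromSpec), hβp.symm⟩

omit [IsAlgClosed L] in
/-- An affine chart at a geometric point. -/
theorem exists_chart {X : Over (Spec (CommRingCat.of k))} [LocallyOfFiniteType X.hom] (p : SGA7.pt (K := k) L ⟶ X) :
    ∃ (A : Type u) (_ : CommRing A) (_ : Algebra k A) (j : specA k A ⟶ X) (β : A →ₐ[k] L),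
      Algebra.FiniteType k A ∧ IsOpenImmersion j.left ∧
      p.left = Spec.map (CommRingCat.ofHom β.toRingHom) ≫ j.left := by
  obtain ⟨U, hU, hxU, -⟩ := exists_isAffineOpen_mem_and_subset (x := p.left (IsLocalRing.closedPoint L))
    (U := ⊤) trivial
  obtain ⟨φ, hφ⟩ := Spec.map_surjective (hU.fromSpec ≫ X.hom)
  letI := φ.hom.toAlgebra
  have hfin : Algebra.FiniteType k Γ(X.left, U) := by
    have : LocallyOfFiniteType (Spec.map φ) := by rw [hφ]; infer_instance
    exact (HasRingHomProperty.Spec_iff (P := @LocallyOfFiniteType)).1 this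
  have hsub : Set.range p.left ⊆ Set.range hU.fromSpec := by
    rw [hU.range_fromSpec]
    rintro _ ⟨q, rfl⟩
    obtain rfl : q = IsLocalRing.closedPoint L := (inferInstance : Subsingleton (PrimeSpectrum L)).elim q _
    exact hxU
  obtain ⟨β, hβ⟩ := Spec.map_surjective (IsOpenImmersion.lift hU.fromSpec p.left hsub)
  have hβp : Spec.map β ≫ hU.fromSpec = p.left := by rw [hβ, IsOpenImmersion.lift_fac]
  have hc : φ ≫ β = CommRingCat.ofHom (algebraMap k L) := Spec.map_injective (by
    rw [Spec.map_comp, hφ, reassoc_of% hβp]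
    exact Over.w p)
  exact ⟨Γ(X.left, U), inferInstance, inferInstance, Over.homMk hU.fromSpec hφ.symm,
    { β.hom with commutes' := fun a => congrArg (fun t => t.hom a) hc }, hfin, (inferInstance : IsOpenImmersion hU.fromSpec), hβp.symm⟩

omit [IsAlgClosed L] in
/-- A geometric point whose chart takes values in a subfield is defined over it. -/
theorem exists_fac {X : Over (Spec (CommRingCat.of k))} (p : SGA7.pt (K := k) L ⟶ X)
    {A : Type u} [CommRing A] [Algebra k A] (j : specA k A ⟶ X) (β : A →ₐ[k] L)
    (hp : p.left = Spec.map (CommRingCat.ofHom β.toRingHom) ≫ j.left)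
    {k₁ : Type u} [Field k₁] [Algebra k k₁] [Algebra k₁ L] [IsScalarTower k k₁ L]
    (hr : ∀ a, β a ∈ Set.range (algebraMap k₁ L)) (ι : SGA7.pt (K := k) L ⟶ SGA7.pt (K := k) k₁)
    (hι : ι.left = Spec.map (CommRingCat.ofHom (algebraMap k₁ L))) :
    ∃ p₁ : SGA7.pt (K := k) k₁ ⟶ X, ι ≫ p₁ = p := by
  choose f hf using hr
  have hinj := (algebraMap k₁ L).injective
  let β₁ : A →ₐ[k] k₁ :=
    { toFun := f
      map_one' := hinj (by simp [hf])
      map_mul' := fun a b => hinj (by simp [hf])
      map_zero' := hinj (by simp [hf])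
      map_add' := fun a b => hinj (by simp [hf])
      commutes' := fun a => hinj (by rw [hf, β.commutes, ← IsScalarTower.algebraMap_apply]) }
  refine ⟨Over.homMk (Spec.map (CommRingCat.ofHom β₁.toRingHom) ≫ j.left) ?_, ?_⟩
  · have hj := Over.w j
    rw [Category.assoc, hj]
    show _ ≫ Spec.map _ = Spec.map _
    rw [← Spec.map_comp]
    congr 1
    ext a
    exact β₁.commutes a
  · apply Over.OverMorphism.ext
    show ι.left ≫ Spec.map (CommRingCat.ofHom β₁.toRingHom) ≫ j.left = p.left
    rw [hι, hp, ← Category.assoc, ← Spec.map_comp]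
    congr 2
    ext a
    exact hf a

omit [IsAlgClosed L] in
/-- Every geometric point is defined over a finite subextension. -/
theorem exists_finite_level [Algebra.IsAlgebraic k L] {X : Over (Spec (CommRingCat.of k))}
    [LocallyOfFiniteType X.hom] (p : SGA7.pt (K := k) L ⟶ X) :
    ∃ E : IntermediateField k L, FiniteDimensional k E ∧
      ∀ ι : SGA7.pt (K := k) L ⟶ SGA7.pt (K := k) E, ι.left = Spec.map (CommRingCat.ofHom (algebraMap E L)) →
        ∃ p₁ : SGA7.pt (K := k) E ⟶ X, ι ≫ p₁ = p := by
  obtain ⟨A, _, _, j, β, hA, -, hp⟩ := exists_chart p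
  obtain ⟨s, hs⟩ := hA.out
  haveI : Finite (β '' (s : Set A) : Set L) := (s.finite_toSet.image β).to_subtype
  refine ⟨IntermediateField.adjoin k (β '' (s : Set A)), IntermediateField.finiteDimensional_adjoin
    (fun x _ => (Algebra.IsAlgebraic.isAlgebraic x).isIntegral), fun ι hι => exists_fac p j β hp (fun a => ?_) ι hι⟩
  have hle : (Algebra.adjoin k (s : Set A)).map β ≤
      (IntermediateField.adjoin k (β '' (s : Set A))).toSubalgebra := by
    rw [AlgHom.map_adjoin]
    exact IntermediateField.algebra_adjoin_le_adjoin k _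
  exact ⟨⟨β a, hle ⟨a, hs ▸ Algebra.mem_top, rfl⟩⟩, rfl⟩

omit [IsAlgClosed L] in
/-- A geometric point fixed by the Frobenius of a finite subfield is defined over it. -/
theorem exists_fac_of_frob (k₁ : Type u) [Field k₁] [Finite k₁] [Algebra k k₁] [Algebra k₁ L]
    [IsScalarTower k k₁ L] {X : Over (Spec (CommRingCat.of k))}
    (p : SGA7.pt (K := k) L ⟶ X) (F : SGA7.pt (K := k) L ⟶ SGA7.pt (K := k) L) (π : L →+* L)
    (hπ : ∀ x, π x = x ^ Nat.card k₁) (hF : F.left = Spec.map (CommRingCat.ofHom π)) (hp : F ≫ p = p)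
    (ι : SGA7.pt (K := k) L ⟶ SGA7.pt (K := k) k₁)
    (hι : ι.left = Spec.map (CommRingCat.ofHom (algebraMap k₁ L))) :
    ∃! p₁ : SGA7.pt (K := k) k₁ ⟶ X, ι ≫ p₁ = p := by
  obtain ⟨A, _, _, j, β, hj, hpj⟩ := exists_chart' p
  have e : Spec.map (CommRingCat.ofHom π) ≫ Spec.map (CommRingCat.ofHom β.toRingHom) ≫ j.left =
      Spec.map (CommRingCat.ofHom β.toRingHom) ≫ j.left := by
    rw [← hpj, ← hF]
    exact congrArg (fun t : SGA7.pt (K := k) L ⟶ X => t.left) hp
  rw [← Category.assoc, cancel_mono j.left, ← Spec.map_comp] at e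
  have hr : ∀ a, β a ∈ Set.range (algebraMap k₁ L) := fun a => TorsorPoints.mem_range_of_pow_eq (β a) (by
    rw [← hπ]
    exact congrArg (fun t => t.hom a) (Spec.map_injective e))
  obtain ⟨p₁, h₁⟩ := exists_fac p j β hpj hr ι hι
  exact ⟨p₁, h₁, fun q hq => cancel_pt k₁ ι q p₁ (hq.trans h₁.symm)⟩

end Groth.Agent.Stk19b.Count
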