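import Groth.Agent.Stk19b.Count.Galois
import Groth.Agent.CSA.GaloisDescent
import Mathlib.Algebra.Category.Ring.Constructions
import Mathlib.RingTheory.Finiteness.Descent

/-! Quotient of an affine scheme over a level by a twisted Frobenius (Galois descent of algebras). -/

set_option autoImplicit false
set_option linter.style.haveILetI false
set_option linter.unusedSectionVars false
set_option backward.isDefEq.respectTransparency false
set_option backward.isDefEq.respectTransparency.types false

universe u

open CategoryTheory CategoryTheory.Limits AlgebraicGeometry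
open scoped TensorProduct

namespace Groth.Agent.Stk19b.Count

variable {k' : Type u} [Field k'] [Finite k'] {E : Type u} [Field E] [Algebra k' E] [Finite E]

/-- Galois descent of algebras for a finite extension of finite fields. -/
theorem exists_descended_algebra {n : ℕ} (hE : Nat.card E = Nat.card k' ^ n) (C : Type u) [CommRing C]
    (ψ : E →+* C) (τ : C →+* C) (hτψ : ∀ x, τ (ψ x) = ψ (x ^ Nat.card k')) (hτ : ∀ c, τ^[n] c = c)
    (hfin : (ψ.comp (algebraMap k' E)).FiniteType) :
    ∃ (B : CommRingCat.{u}) (b : CommRingCat.of k' ⟶ B) (i : B ⟶ CommRingCat.of C),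
      b.hom.FiniteType ∧ Function.Injective i.hom ∧ i ≫ CommRingCat.ofHom τ = i ∧
      IsPushout b (CommRingCat.ofHom (algebraMap k' E)) i (CommRingCat.ofHom ψ) := by
  classical
  letI := Fintype.ofFinite k'
  letI := Fintype.ofFinite E
  haveI : Module.Finite k' E := Module.Finite.of_finite
  have hn : Module.finrank k' E = n :=
    Nat.pow_right_injective (Finite.one_lt_card : 2 ≤ Nat.card k') (by
      simp only [← Module.natCard_eq_pow_finrank, hE])
  letI : Algebra E C := ψ.toAlgebra
  letI : Algebra k' C := (ψ.comp (algebraMap k' E)).toAlgebra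
  haveI : IsScalarTower k' E C := IsScalarTower.of_algebraMap_eq fun _ => rfl
  let f : E ≃ₐ[k'] E := FiniteField.frobeniusAlgEquivOfAlgebraic k' E
  have hf : ∀ x, f x = x ^ Nat.card k' := fun x => by
    rw [Nat.card_eq_fintype_card]
    exact congrFun (FiniteField.coe_frobeniusAlgEquivOfAlgebraic k' E) x
  have hord : orderOf f = n := (FiniteField.orderOf_frobeniusAlgEquivOfAlgebraic k' E).trans hn
  have hper : ∀ i j c, i ≡ j [MOD n] → τ^[i] c = τ^[j] c := by
    intro i j c h
    have e : ∀ i, τ^[i] c = τ^[i % n] c := fun i => by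
      conv_lhs => rw [← Nat.mod_add_div i n]
      rw [Function.iterate_add_apply, Function.iterate_mul]
      congr 1
      exact Function.iterate_fixed (f := τ^[n]) (hτ c) _
    rw [e i, e j, h]
  have hpow : ∀ g : E ≃ₐ[k'] E, ∃ i : ℕ, f ^ i = g := fun g =>
    ⟨_, ((FiniteField.bijective_frobeniusAlgEquivOfAlgebraic_pow k' E).2 g).choose_spec⟩
  choose d hd using hpow
  have hrel : ∀ (g : E ≃ₐ[k'] E) (i : ℕ), f ^ i = g → ∀ c, τ^[d g] c = τ^[i] c := fun g i h c =>
    hper _ _ c (hord ▸ (pow_eq_pow_iff_modEq (x := f)).1 ((hd g).trans h.symm))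
  have hiter : ∀ (i : ℕ) (x : E), τ^[i] (ψ x) = ψ ((f ^ i) x) := by
    intro i
    induction i with
    | zero => intro x; simp
    | succ i ih =>
      intro x
      rw [Function.iterate_succ', Function.comp_apply, ih, hτψ, pow_succ', AlgEquiv.mul_apply, hf]
  letI : DistribMulAction (E ≃ₐ[k'] E) C :=
    { smul := fun g c => τ^[d g] c
      one_smul := fun c => (hrel 1 0 (pow_zero f) c).trans rfl
      mul_smul := fun g g' c => by
        show τ^[d (g * g')] c = τ^[d g] (τ^[d g'] c)
        rw [← Function.iterate_add_apply]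
        exact hrel _ _ (by rw [pow_add, hd, hd]) c
      smul_zero := fun g => iterate_map_zero τ _
      smul_add := fun g a b => iterate_map_add τ _ a b }
  have hsemi : ∀ (g : E ≃ₐ[k'] E) (x : E) (c : C), g • (x • c) = g x • g • c := fun g x c => by
    show τ^[d g] (ψ x * c) = ψ (g x) * τ^[d g] c
    rw [iterate_map_mul, hiter, hd]
  let B₀ : Subalgebra k' C :=
    { carrier := {c | τ c = c}
      mul_mem' := fun {a b} (ha : τ a = a) (hb : τ b = b) => by show τ _ = _; rw [map_mul, ha, hb]
      add_mem' := fun {a b} (ha : τ a = a) (hb : τ b = b) => by show τ _ = _; rw [map_add, ha, hb]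
      algebraMap_mem' := fun r => by
        show τ (ψ (algebraMap k' E r)) = ψ (algebraMap k' E r)
        rw [hτψ, ← map_pow, Nat.card_eq_fintype_card, FiniteField.pow_card] }
  have hfix : ∀ c, c ∈ MulAction.fixedPoints (E ≃ₐ[k'] E) C ↔ c ∈ B₀ := fun c => by
    constructor
    · intro h
      have := h f
      rw [show f • c = τ^[d f] c from rfl, hrel f 1 (pow_one f)] at this
      exact this
    · intro h g
      exact Function.iterate_fixed h _
  letI : Algebra B₀ C := B₀.val.toRingHom.toAlgebra
  haveI : IsScalarTower k' B₀ C := IsScalarTower.of_algebraMap_eq fun _ => rfl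
  let bB := Module.Free.chooseBasis k' B₀
  have hli : LinearIndependent E fun i => (bB i : C) :=
    Groth.Agent.CSA.linearIndependent_of_fixed hsemi _ (fun i => (hfix _).2 (bB i).2)
      (bB.linearIndependent.map' B₀.val.toLinearMap (LinearMap.ker_eq_bot.2 Subtype.val_injective))
  have hsp : ⊤ ≤ Submodule.span E (Set.range fun i => (bB i : C)) := by
    rw [← Groth.Agent.CSA.span_fixed_eq_top hsemi, Submodule.span_le]
    intro c hc
    have hc' := (hfix c).1 hc
    have hm : (⟨c, hc'⟩ : B₀) ∈ Submodule.span k' (Set.range bB) := bB.mem_span _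
    have h2 : c ∈ (Submodule.span k' (Set.range bB)).map B₀.val.toLinearMap := ⟨_, hm, rfl⟩
    rw [Submodule.map_span, ← Set.range_comp] at h2
    exact Submodule.span_le_restrictScalars k' E _ h2
  let e : E ⊗[k'] B₀ ≃ₗ[E] C := (bB.baseChange E).equiv (Module.Basis.mk hli hsp) (Equiv.refl _)
  have he : ∀ x : B₀, e (1 ⊗ₜ x) = (x : C) := by
    intro x
    have : (e.toLinearMap.restrictScalars k') ∘ₗ (TensorProduct.mk k' E B₀ 1) = B₀.val.toLinearMap :=
      bB.ext fun i => by
        show e (1 ⊗ₜ bB i) = (bB i : C)
        show (bB.baseChange E).equiv (Module.Basis.mk hli hsp) (Equiv.refl _) _ = _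
        rw [← Module.Basis.baseChange_apply E bB i, Module.Basis.equiv_apply, Equiv.refl_apply,
          Module.Basis.mk_apply]
    exact LinearMap.congr_fun this x
  have hpush : Algebra.IsPushout k' E B₀ C := ⟨IsBaseChange.of_equiv e he⟩
  haveI : Algebra.FiniteType k' C := hfin
  haveI : Algebra.FiniteType E C := Algebra.FiniteType.of_restrictScalars_finiteType k' E C
  haveI : Algebra.FiniteType E (E ⊗[k'] B₀) :=
    (inferInstance : Algebra.FiniteType E C).equiv (hpush.equiv k' E B₀ C).symm
  have hB : Algebra.FiniteType k' B₀ := Algebra.FiniteType.of_finiteType_tensorProduct_of_faithfullyFlat (T := E)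
  refine ⟨CommRingCat.of B₀, CommRingCat.ofHom (algebraMap k' B₀), CommRingCat.ofHom (algebraMap B₀ C),
    RingHom.finiteType_algebraMap.2 hB, Subtype.val_injective, ?_, ?_⟩
  · ext c
    exact c.2
  · exact CommRingCat.isPushout_iff_isPushout.2 hpush.symm

end Groth.Agent.Stk19b.Count
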