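import Groth.Agent.Stk19b.Count.QuotAlg

/-! The quotient of an affine scheme over a level by a twisted Frobenius. -/

set_option autoImplicit false
set_option linter.style.haveILetI false
set_option linter.unusedSectionVars false
set_option backward.isDefEq.respectTransparency false
set_option backward.isDefEq.respectTransparency.types false

universe u

open CategoryTheory CategoryTheory.Limits AlgebraicGeometry

namespace Groth.Agent.Stk19b.Count

variable {k : Type u} [Field k] {k' : Type u} [Field k'] [Finite k'] [Algebra k k']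
  {E : Type u} [Field E] [Algebra k E] [Algebra k' E] [IsScalarTower k k' E] [Finite E]

/-- An affine scheme of finite type over a level with a twisted Frobenius is the base change of its quotient. -/
theorem exists_quotient {n : ℕ} (hE : Nat.card E = Nat.card k' ^ n) {Q' : Over (Spec (CommRingCat.of k))}
    [IsAffine Q'.left] [LocallyOfFiniteType Q'.hom] (s : Q' ⟶ SGA7.pt (K := k) E) (Ψ : Q' ⟶ Q')
    (h2 : Ψ ≫ s = s ≫ frM k k' E) (hn : powM Ψ n = 𝟙 Q') :
    ∃ (Q : Over (Spec (CommRingCat.of k))) (r : Q ⟶ SGA7.pt (K := k) k') (q : Q' ⟶ Q),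
      IsAffine Q.left ∧ LocallyOfFiniteType Q.hom ∧ Ψ ≫ q = q ∧ IsPullback q s r (incl k k' E) := by
  let e := Q'.left.isoSpec
  obtain ⟨ψ, hψ⟩ := Spec.map_surjective (e.inv ≫ s.left)
  obtain ⟨τ, hτ⟩ := Spec.map_surjective (e.inv ≫ Ψ.left ≫ e.hom)
  have hτψ : ψ ≫ τ = CommRingCat.ofHom (frobHom k' E) ≫ ψ := by
    apply Spec.map_injective
    rw [Spec.map_comp, Spec.map_comp, hτ, hψ]
    simp only [Category.assoc, Iso.hom_inv_id_assoc]
    exact congrArg (fun t : Q' ⟶ SGA7.pt (K := k) E => e.inv ≫ t.left) h2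
  have hiter : ∀ i, ∀ (χ : Γ(Q'.left, ⊤) ⟶ Γ(Q'.left, ⊤)), Spec.map χ = e.inv ≫ (powM Ψ i).left ≫ e.hom → ∀ c, τ.hom^[i] c = χ.hom c := by
    intro i
    induction i with
    | zero =>
      intro χ hχ c
      have : χ = 𝟙 _ := Spec.map_injective (by
        rw [hχ, Spec.map_id]
        show e.inv ≫ 𝟙 _ ≫ e.hom = _
        simp)
      simp [this]
    | succ i ih =>
      intro χ hχ c
      obtain ⟨χ', hχ'⟩ := Spec.map_surjective (e.inv ≫ (powM Ψ i).left ≫ e.hom)
      have : χ = χ' ≫ τ := Spec.map_injective (by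
        rw [hχ, Spec.map_comp, hτ, hχ']
        show e.inv ≫ (Ψ.left ≫ (powM Ψ i).left) ≫ e.hom = _
        simp)
      rw [Function.iterate_succ', Function.comp_apply, ih χ' hχ' c, this]
      rfl
  have hτn : ∀ c, τ.hom^[n] c = c := fun c => by
    rw [hiter n (𝟙 _) (by rw [hn, Spec.map_id]; simp) c]
    rfl
  have hQk : e.inv ≫ Q'.hom = Spec.map ψ ≫ (SGA7.pt (K := k) E).hom := by
    rw [hψ, Category.assoc, Over.w s]
  have hfin : (ψ.hom.comp (algebraMap k' E)).FiniteType := by
    have h1 : LocallyOfFiniteType ((Spec.map ψ ≫ (incl k k' E).left) ≫ (SGA7.pt (K := k) k').hom) := by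
      rw [Category.assoc, Over.w (incl k k' E), ← hQk]
      infer_instance
    have h3 := @locallyOfFiniteType_of_comp _ _ _ (Spec.map ψ ≫ (incl k k' E).left) _ h1
    rw [incl_left, ← Spec.map_comp, HasRingHomProperty.Spec_iff (P := @LocallyOfFiniteType)] at h3
    exact h3
  obtain ⟨B, b, i, hb, hi, hiτ, hpush⟩ := exists_descended_algebra hE Γ(Q'.left, ⊤) ψ.hom τ.hom
    (fun x => by
      rw [← frobHom_apply k' E]
      exact congrArg (fun t => t.hom x) hτψ) hτn hfin
  let r₀ : Spec B ⟶ (SGA7.pt (K := k) k').left := Spec.map b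
  let Q : Over (Spec (CommRingCat.of k)) := Over.mk (r₀ ≫ (SGA7.pt (K := k) k').hom)
  let r : Q ⟶ SGA7.pt (K := k) k' := Over.homMk r₀ rfl
  have hsq : IsPullback (e.hom ≫ Spec.map i) s.left r₀ (incl k k' E).left := by
    have h0 := (isPullback_SpecMap_of_isPushout _ _ _ _ hpush)
    refine h0.of_iso e.symm (Iso.refl _) (Iso.refl _) (Iso.refl _) ?_ ?_ ?_ ?_
    · simp
    · simp only [Iso.symm_hom, Iso.refl_hom, Category.comp_id]
      exact hψ
    · show r₀ ≫ 𝟙 _ = 𝟙 _ ≫ r₀
      simp
    · show (incl k k' E).left ≫ 𝟙 _ = 𝟙 _ ≫ (incl k k' E).left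
      simp
  let q : Q' ⟶ Q := Over.homMk (e.hom ≫ Spec.map i) (by
    show (e.hom ≫ Spec.map i) ≫ r₀ ≫ (SGA7.pt (K := k) k').hom = Q'.hom
    rw [← Category.assoc, hsq.w, Category.assoc, Over.w (incl k k' E), Over.w s])
  haveI : LocallyOfFiniteType r₀ := by
    rw [HasRingHomProperty.Spec_iff (P := @LocallyOfFiniteType)]
    exact hb
  refine ⟨Q, r, q, inferInstanceAs (IsAffine (Spec B)), ?_, ?_, ?_⟩
  · haveI : Module.Finite k k' := by
      haveI : Finite k := Finite.of_injective (algebraMap k k') (algebraMap k k').injective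
      exact Module.Finite.of_finite
    haveI : LocallyOfFiniteType (SGA7.pt (K := k) k').hom := by
      rw [show (SGA7.pt (K := k) k').hom = Spec.map (CommRingCat.ofHom (algebraMap k k')) from rfl,
        HasRingHomProperty.Spec_iff (P := @LocallyOfFiniteType)]
      exact RingHom.finiteType_algebraMap.2 inferInstance
    show LocallyOfFiniteType (r₀ ≫ _)
    infer_instance
  · apply Over.OverMorphism.ext
    show Ψ.left ≫ e.hom ≫ Spec.map i = e.hom ≫ Spec.map i
    have : Spec.map τ ≫ Spec.map i = Spec.map i := by rw [← Spec.map_comp]; exact congrArg Spec.map hiτ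
    conv_rhs => rw [← this, hτ]
    simp
  · exact IsPullback.of_map (Over.forget _) (Over.OverMorphism.ext hsq.w) hsq

end Groth.Agent.Stk19b.Count
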