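import Groth.Agent.Stk19b.Count.Galois
import Groth.Agent.Stk19b.QuotTriv

/-! Objects of a quotient stack over a finite field, trivialised at a level; their morphisms. -/

set_option autoImplicit false
set_option linter.style.haveILetI false
set_option linter.unusedSectionVars false
set_option backward.isDefEq.respectTransparency false
set_option backward.isDefEq.respectTransparency.types false

universe u

open CategoryTheory CategoryTheory.Limits AlgebraicGeometry MonoidalCategory CartesianMonoidalCategory MonObj GrpObj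

namespace Groth.Agent.Stk19b.Count

open QuotTriv

variable {k : Type u} [Field k] {k' : Type u} [Field k'] [Finite k'] [Algebra k k']
  {L : Type u} [Field L] [Algebra k L] [IsAlgClosed L] [Algebra k' L] [IsScalarTower k k' L]
  {G X : Over (Spec (CommRingCat.of k))} [GrpObj G] {aX : AlgGrp.Action G X}
  {K : Precoverage Scheme.{u}}

/-- A geometric trivialisation with Frobenius value `a`: a point `t` of the torsor of an object over `k'` with
`F t = a • t`. -/
structure Triv (A : AlgSt.QuotObj K G aX) (hA : A.base = SGA7.pt (K := k) k')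
    (a : SGA7.pt (K := k) L ⟶ G) where
  t : SGA7.pt (K := k) L ⟶ A.P
  π_eq : t ≫ A.π ≫ eqToHom hA = incl k k' L
  frob : frM k k' L ≫ t = smulPt A.act a t

theorem Triv.powM_eq {A : AlgSt.QuotObj K G aX} {hA : A.base = SGA7.pt (K := k) k'}
    {a : SGA7.pt (K := k) L ⟶ G} (τ : Triv A hA a) (i : ℕ) :
    powM (frM k k' L) i ≫ τ.t = smulPt A.act (normM k k' L a i) τ.t := by
  induction i with
  | zero => simp [powM, normM, smulPt_one]
  | succ i ih => rw [powM, Category.assoc, ih, comp_smulPt, τ.frob, ← smulPt_mul]; rfl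

section Level

variable {E : Type u} [Field E] [Algebra k E] [Algebra k' E] [IsScalarTower k k' E] [Algebra E L]
  [IsScalarTower k E L] [IsScalarTower k' E L] [Finite E]

/-- The twisted Frobenius of the trivial torsor of a level. -/
noncomputable def phi (α : SGA7.pt (K := k) E ⟶ G) :
    G ⊗ SGA7.pt (K := k) E ⟶ G ⊗ SGA7.pt (K := k) E :=
  lift (fst G _ * (snd G _ ≫ α)⁻¹) (snd G _ ≫ frM k k' E)

variable {n : ℕ} (hE : Nat.card E = Nat.card k' ^ n)
include hE

theorem smooth_level [Smooth G.hom] : Smooth (G ⊗ SGA7.pt (K := k) E).hom := by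
  haveI : Finite k := Finite.of_injective (algebraMap k E) (algebraMap k E).injective
  obtain ⟨he, -, -⟩ := etale_incl (k := k) (k' := k) (E := E)
  have h2 : Smooth (SGA7.pt (K := k) E).hom := by
    have := (incl k k E).w
    haveI : Etale (incl k k E).left := he
    rw [← Over.w (incl k k E)]
    haveI : IsIso (SGA7.pt (K := k) k).hom := by
      show IsIso (Spec.map (CommRingCat.ofHom (RingHom.id k)))
      rw [show CommRingCat.ofHom (RingHom.id k) = 𝟙 (CommRingCat.of k) from rfl, Spec.map_id]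
      infer_instance
    infer_instance
  show Smooth (pullback.fst G.hom (SGA7.pt (K := k) E).hom ≫ G.hom)
  infer_instance

variable {A : AlgSt.QuotObj K G aX} {hA : A.base = SGA7.pt (K := k) k'} {a : SGA7.pt (K := k) L ⟶ G}
  (τ : Triv A hA a)

theorem exists_tE (hn : normM k k' L a n = 1) :
    ∃ tE : SGA7.pt (K := k) E ⟶ A.P, incl k E L ≫ tE = τ.t :=
  (existsUnique_level hE τ.t (by rw [τ.powM_eq, hn, smulPt_one])).exists

theorem frob_tE (α : SGA7.pt (K := k) E ⟶ G) (hα : incl k E L ≫ α = a)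
    (tE : SGA7.pt (K := k) E ⟶ A.P) (ht : incl k E L ≫ tE = τ.t) :
    frM k k' E ≫ tE = smulPt A.act α tE := by
  apply cancel_level (L := L) hE
  rw [← Category.assoc, ← frM_incl, Category.assoc, ht, τ.frob, comp_smulPt, hα, ht]

theorem tE_π (tE : SGA7.pt (K := k) E ⟶ A.P) (ht : incl k E L ≫ tE = τ.t) :
    tE ≫ A.π ≫ eqToHom hA = incl k k' E :=
  cancel_level (L := L) hE _ _ (by rw [← Category.assoc, ht, τ.π_eq, incl_comp])

theorem isPullback_level [K.HasIsos] (tE : SGA7.pt (K := k) E ⟶ A.P) (ht : incl k E L ≫ tE = τ.t) :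
    IsPullback (smulPt A.act (fst G _) (snd G (SGA7.pt (K := k) E) ≫ tE)) (snd G _) (A.π ≫ eqToHom hA)
      (incl k k' E) := by
  obtain ⟨h, hb, ht'⟩ := exists_hom_of_point A tE (incl k k' E ≫ eqToHom hA.symm)
    (by rw [← tE_π hE τ tE ht]; simp) (tE ≫ A.φ) rfl
  have hc := h.cart
  rw [hb, ht'] at hc
  refine hc.of_iso (Iso.refl _) (Iso.refl _) (Iso.refl _) (eqToIso hA) ?_ ?_ ?_ ?_
  · simp
  · show snd G _ ≫ 𝟙 _ = 𝟙 _ ≫ snd G _
    simp
  · simp
  · simp

theorem phi_comp (α : SGA7.pt (K := k) E ⟶ G) (hα : incl k E L ≫ α = a)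
    (tE : SGA7.pt (K := k) E ⟶ A.P) (ht : incl k E L ≫ tE = τ.t) :
    phi (k' := k') α ≫ smulPt A.act (fst G _) (snd G _ ≫ tE) = smulPt A.act (fst G _) (snd G _ ≫ tE) := by
  rw [comp_smulPt, phi, lift_fst, ← Category.assoc, lift_snd, Category.assoc, frob_tE hE τ α hα tE ht, comp_smulPt, ← smulPt_mul,
    _root_.mul_assoc, inv_mul_cancel, _root_.mul_one]

variable [K.HasIsos] [Smooth G.hom]
variable {B : AlgSt.QuotObj K G aX} {hB : B.base = SGA7.pt (K := k) k'} {b : SGA7.pt (K := k) L ⟶ G}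
  (σ : Triv B hB b)

/-- The morphism of total spaces sending `t` to `g • t'`. -/
theorem exists_top (α β cc : SGA7.pt (K := k) E ⟶ G) (hα : incl k E L ≫ α = a) (hβ : incl k E L ≫ β = b)
    (tA : SGA7.pt (K := k) E ⟶ A.P) (htA : incl k E L ≫ tA = τ.t)
    (tB : SGA7.pt (K := k) E ⟶ B.P) (htB : incl k E L ≫ tB = σ.t)
    (hcc : α * cc = (frM k k' E ≫ cc) * β) (hx : smulPt aX cc (tB ≫ B.φ) = tA ≫ A.φ) :
    ∃ top : A.P ⟶ B.P,
      smulPt A.act (fst G _) (snd G (SGA7.pt (K := k) E) ≫ tA) ≫ top =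
        smulPt B.act (fst G _ * (snd G _ ≫ cc)) (snd G _ ≫ tB) ∧
      A.act.act ≫ top = (G ◁ top) ≫ B.act.act ∧ top ≫ B.φ = A.φ ∧
      top ≫ B.π = A.π ≫ eqToHom (hA.trans hB.symm) := by
  have sq := isPullback_level hE τ tA htA
  haveI := smooth_level (G := G) hE
  have hinv : phi (k' := k') α ≫ smulPt B.act (fst G _ * (snd G _ ≫ cc)) (snd G _ ≫ tB) =
      smulPt B.act (fst G _ * (snd G _ ≫ cc)) (snd G _ ≫ tB) := by
    have e : (α⁻¹ * (frM k k' E ≫ cc)) * β = cc := by rw [_root_.mul_assoc, ← hcc, inv_mul_cancel_left]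
    rw [comp_smulPt, phi, MonObj.comp_mul, lift_fst, ← Category.assoc, lift_snd, ← Category.assoc, lift_snd, Category.assoc, Category.assoc,
      frob_tE hE σ β hβ tB htB, comp_smulPt, ← smulPt_mul]
    conv_rhs => rw [← e]
    simp only [MonObj.comp_mul, GrpObj.comp_inv, _root_.mul_assoc]
  obtain ⟨top, htop, -⟩ := existsUnique_desc_level L hE sq (phi (k' := k') α) (phi_comp hE τ α hα tA htA)
    (lift_snd _ _) _ hinv
  have hl : ∀ {Z : Over (Spec (CommRingCat.of k))} (h : Z ⟶ G) (e : Z ⟶ SGA7.pt (K := k) E),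
      smulPt A.act h (e ≫ tA) ≫ top = smulPt B.act (h * (e ≫ cc)) (e ≫ tB) := fun h e => by
    have := congrArg (fun m => lift h e ≫ m) htop
    simp only [← Category.assoc] at this
    simpa [comp_smulPt, MonObj.comp_mul] using this
  refine ⟨top, htop, ?_, ?_, ?_⟩
  · haveI : Smooth (G ⊗ (G ⊗ SGA7.pt (K := k) E)).hom := by
      show Smooth (pullback.fst G.hom (G ⊗ SGA7.pt (K := k) E).hom ≫ G.hom)
      infer_instance
    apply epi_level L hE ((AlgSt.isPullback_whiskerLeft (G := G)
      (smulPt A.act (fst G _) (snd G (SGA7.pt (K := k) E) ≫ tA))).paste_vert sq)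
    set q := smulPt A.act (fst G _) (snd G (SGA7.pt (K := k) E) ≫ tA) with hq
    have e1 : (G ◁ q) ≫ A.act.act =
        smulPt A.act (fst G _ * (snd G _ ≫ fst G _)) ((snd G _ ≫ snd G _) ≫ tA) := by
      rw [whiskerLeft_eq]
      show smulPt A.act (fst G _) (snd G _ ≫ q) = _
      rw [hq, comp_smulPt, ← smulPt_mul, Category.assoc]
    rw [← Category.assoc, e1, hl, ← Category.assoc, ← MonoidalCategory.whiskerLeft_comp, htop, whiskerLeft_eq]
    show _ = smulPt B.act (fst G _) (snd G _ ≫ smulPt B.act _ _)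
    rw [comp_smulPt, ← smulPt_mul, MonObj.comp_mul, _root_.mul_assoc, Category.assoc, Category.assoc]
  · apply epi_level L hE sq
    rw [← Category.assoc, htop, comp_φ, comp_φ, smulPt_mul, Category.assoc, Category.assoc,
      ← comp_smulPt aX (snd G _) cc, hx]
  · apply epi_level L hE sq
    rw [← Category.assoc, htop, smulPt_π, ← Category.assoc _ A.π, smulPt_π]
    have e1 := tE_π hE σ tB htB
    have e2 := tE_π hE τ tA htA
    simp only [Category.assoc]
    congr 1
    rw [← cancel_mono (eqToHom hB)]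
    simpa using e1.trans e2.symm

theorem isIso_top (α β cc : SGA7.pt (K := k) E ⟶ G) (hα : incl k E L ≫ α = a) (hβ : incl k E L ≫ β = b)
    (tA : SGA7.pt (K := k) E ⟶ A.P) (htA : incl k E L ≫ tA = τ.t)
    (tB : SGA7.pt (K := k) E ⟶ B.P) (htB : incl k E L ≫ tB = σ.t)
    (hcc : α * cc = (frM k k' E ≫ cc) * β) (hx : smulPt aX cc (tB ≫ B.φ) = tA ≫ A.φ) :
    ∃ h : A ⟶ B, h.base = eqToHom (hA.trans hB.symm) ∧
      incl k E L ≫ tA ≫ h.top = smulPt B.act (incl k E L ≫ cc) σ.t := by
  obtain ⟨top, h1, h2, h3, h4⟩ := exists_top hE τ σ α β cc hα hβ tA htA tB htB hcc hx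
  have hcc' : β * cc⁻¹ = (frM k k' E ≫ cc⁻¹) * α := by
    rw [GrpObj.comp_inv, eq_inv_mul_iff_mul_eq, ← _root_.mul_assoc, ← hcc, mul_inv_cancel_right]
  obtain ⟨top', k1, k2, k3, k4⟩ := exists_top hE σ τ β α cc⁻¹ hβ hα tB htB tA htA hcc' (by
    rw [← hx, smulPt_inv_smul])
  have hl : ∀ {Z : Over (Spec (CommRingCat.of k))} (h : Z ⟶ G) (e : Z ⟶ SGA7.pt (K := k) E),
      smulPt A.act h (e ≫ tA) ≫ top = smulPt B.act (h * (e ≫ cc)) (e ≫ tB) := fun h e => by
    have := congrArg (fun m => lift h e ≫ m) h1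
    simp only [← Category.assoc] at this
    simpa [comp_smulPt, MonObj.comp_mul] using this
  have kl : ∀ {Z : Over (Spec (CommRingCat.of k))} (h : Z ⟶ G) (e : Z ⟶ SGA7.pt (K := k) E),
      smulPt B.act h (e ≫ tB) ≫ top' = smulPt A.act (h * (e ≫ cc⁻¹)) (e ≫ tA) := fun h e => by
    have := congrArg (fun m => lift h e ≫ m) k1
    simp only [← Category.assoc] at this
    simpa [comp_smulPt, MonObj.comp_mul] using this
  haveI : IsIso top := ⟨top', by
      apply epi_level L hE (isPullback_level hE τ tA htA)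
      rw [← Category.assoc, h1, kl, GrpObj.comp_inv, mul_inv_cancel_right, Category.comp_id], by
      apply epi_level L hE (isPullback_level hE σ tB htB)
      rw [← Category.assoc, k1, hl, GrpObj.comp_inv, inv_mul_cancel_right, Category.comp_id]⟩
  refine ⟨{ base := eqToHom (hA.trans hB.symm), top := top, eqv := h2,
            cart := IsPullback.of_horiz_isIso ⟨h4⟩, wφ := h3 }, rfl, ?_⟩
  show incl k E L ≫ tA ≫ top = _
  have := hl (1 : SGA7.pt (K := k) E ⟶ G) (𝟙 _)
  rw [smulPt_one, Category.id_comp, Category.id_comp, Category.id_comp, _root_.one_mul] at this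
  rw [this, comp_smulPt, htB]

end Level

end Groth.Agent.Stk19b.Count
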