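import Groth.Agent.Stk19b.Count.QuotScheme
import Groth.Agent.Stk19b.Count.TorsorLevel

/-! Existence of objects of a quotient stack over a finite field with prescribed Frobenius value. -/

set_option autoImplicit false
set_option linter.style.haveILetI false
set_option linter.unusedSectionVars false
set_option backward.isDefEq.respectTransparency false
set_option backward.isDefEq.respectTransparency.types false

universe u

open CategoryTheory CategoryTheory.Limits AlgebraicGeometry MonoidalCategory CartesianMonoidalCategory MonObj GrpObj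

namespace Groth.Agent.Stk19b.Count

open QuotTriv

theorem isPullback_whiskerLeft' {S : Scheme.{u}} (Y : Over S) {T' T : Over S} (f : T' ⟶ T) :
    IsPullback (Y ◁ f) (snd Y T') (snd Y T) f :=
  IsPullback.of_right (by simpa using AlgSt.isPullback_fst_snd Y T') (by simp) (AlgSt.isPullback_fst_snd Y T)

variable {k : Type u} [Field k] {k' : Type u} [Field k'] [Finite k'] [Algebra k k']
  {G X : Over (Spec (CommRingCat.of k))} [GrpObj G]
  {E : Type u} [Field E] [Algebra k E] [Algebra k' E] [IsScalarTower k k' E] [Finite E]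

/-- The norms at a level. -/
noncomputable def normE (α : SGA7.pt (K := k) E ⟶ G) : ℕ → (SGA7.pt (K := k) E ⟶ G)
  | 0 => 1
  | i + 1 => (frM k k' E ≫ normE α i) * α

theorem powM_phi (α : SGA7.pt (K := k) E ⟶ G) (i : ℕ) :
    powM (phi (k' := k') α) i =
      lift (fst G _ * (snd G _ ≫ normE (k' := k') α i)⁻¹) (snd G _ ≫ powM (frM k k' E) i) := by
  induction i with
  | zero => simp [powM, normE]
  | succ i ih =>
    rw [powM, ih, comp_lift, powM, normE]
    congr 1
    · simp only [MonObj.comp_mul, GrpObj.comp_inv, phi, lift_fst, lift_snd_assoc, Category.assoc, _root_.mul_inv_rev,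
        _root_.mul_assoc]
    · simp only [phi, lift_snd_assoc, Category.assoc]

variable {L : Type u} [Field L] [Algebra k L] [IsAlgClosed L] [Algebra k' L] [IsScalarTower k k' L]
  [Algebra E L] [IsScalarTower k E L] [IsScalarTower k' E L]

theorem incl_normE (α : SGA7.pt (K := k) E ⟶ G) (i : ℕ) :
    incl k E L ≫ normE (k' := k') α i = normM k k' L (incl k E L ≫ α) i := by
  induction i with
  | zero => exact MonObj.comp_one _
  | succ i ih => rw [normE, normM, MonObj.comp_mul, ← Category.assoc, ← frM_incl, Category.assoc, ih]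

variable {n : ℕ} (hE : Nat.card E = Nat.card k' ^ n)
include hE

/-- An object over `k'` with prescribed Frobenius value and point. -/
theorem exists_object {K : Precoverage Scheme.{u}} [IsAffineHom G.hom] [Smooth G.hom] (aX : AlgGrp.Action G X)
    (hK : Presieve.singleton (incl k k' E).left ∈ K (SGA7.pt (K := k) k').left)
    (a : SGA7.pt (K := k) L ⟶ G) (x : SGA7.pt (K := k) L ⟶ X)
    (hfa : powM (frM k k' L) n ≫ a = a) (hfx : powM (frM k k' L) n ≫ x = x)
    (hna : normM k k' L a n = 1) (hax : frM k k' L ≫ x = smulPt aX a x) :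
    ∃ (A : AlgSt.QuotObj K G aX) (hA : A.base = SGA7.pt (K := k) k') (τ : Triv A hA a), τ.t ≫ A.φ = x := by
  obtain ⟨α, hα, -⟩ := existsUnique_level hE a hfa
  obtain ⟨ξ, hξ, -⟩ := existsUnique_level hE x hfx
  have hξf : frM k k' E ≫ ξ = smulPt aX α ξ := by
    apply cancel_level (L := L) hE
    rw [← Category.assoc, ← frM_incl, Category.assoc, hξ, hax, comp_smulPt, hα, hξ]
  have hNn : normE (k' := k') α n = 1 :=
    cancel_level (L := L) hE _ _ (by rw [incl_normE, hα, hna, MonObj.comp_one])
  haveI := smooth_level (G := G) hE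
  haveI : IsAffine G.left := isAffine_of_isAffineHom G.hom
  haveI : IsAffine (SGA7.pt (K := k) E).left := inferInstanceAs (IsAffine (Spec _))
  haveI : IsAffine (G ⊗ SGA7.pt (K := k) E).left :=
    inferInstanceAs (IsAffine (pullback G.hom (SGA7.pt (K := k) E).hom))
  set Φ := phi (k' := k') α with hΦ
  have hΦs : Φ ≫ snd G _ = snd G _ ≫ frM k k' E := lift_snd _ _
  have hΦn : powM Φ n = 𝟙 _ := by
    rw [powM_phi, hNn, MonObj.comp_one, inv_one, _root_.mul_one, powM_frM_eq_id hE, Category.comp_id, lift_fst_snd]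
  obtain ⟨Q, r, q, hQa, hQf, hΦq, sq⟩ := exists_quotient hE (snd G (SGA7.pt (K := k) E)) Φ hΦs hΦn
  have hΦlift : ∀ {Z : Over (Spec (CommRingCat.of k))} (g : Z ⟶ G) (e : Z ⟶ SGA7.pt (K := k) E),
      lift (g * (e ≫ α)⁻¹) (e ≫ frM k k' E) ≫ q = lift g e ≫ q := fun g e => by
    conv_rhs => rw [← hΦq, ← Category.assoc]
    congr 1
    simp [hΦ, phi, MonObj.comp_mul, GrpObj.comp_inv]
  -- the action
  have sqG : IsPullback (G ◁ q) (snd G _ ≫ snd G _) (snd G Q ≫ r) (incl k k' E) :=
    (isPullback_whiskerLeft' G q).paste_vert sq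
  haveI : Smooth (G ⊗ (G ⊗ SGA7.pt (K := k) E)).hom := by
    show Smooth (pullback.fst G.hom (G ⊗ SGA7.pt (K := k) E).hom ≫ G.hom)
    infer_instance
  obtain ⟨m, hm, -⟩ := existsUnique_desc_level L hE sqG (G ◁ Φ)
    (by rw [← MonoidalCategory.whiskerLeft_comp, hΦq])
    (by rw [whiskerLeft_snd_assoc, hΦs, Category.assoc])
    (lift (fst G _ * (snd G _ ≫ fst G _)) (snd G _ ≫ snd G _) ≫ q) (by
      rw [← Category.assoc, ← hΦlift (fst G (G ⊗ SGA7.pt (K := k) E) * (snd G _ ≫ fst G _)) (snd G _ ≫ snd G _)]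
      congr 1
      simp [hΦ, phi, MonObj.comp_mul, GrpObj.comp_inv, _root_.mul_assoc])
  have hml : ∀ {Z : Over (Spec (CommRingCat.of k))} (h g : Z ⟶ G) (e : Z ⟶ SGA7.pt (K := k) E),
      lift h (lift g e ≫ q) ≫ m = lift (h * g) e ≫ q := fun h g e => by
    have := congrArg (fun t => lift h (lift g e) ≫ t) hm
    simp only [← Category.assoc] at this
    simpa [MonObj.comp_mul] using this
  have hq : ∀ {Z : Over (Spec (CommRingCat.of k))} (p : Z ⟶ G ⊗ SGA7.pt (K := k) E),
      p ≫ q = lift (p ≫ fst G _) (p ≫ snd G _) ≫ q := fun p => by rw [← comp_lift, lift_fst_snd, Category.comp_id]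
  let act : AlgGrp.Action G Q :=
    { act := m
      one_act := by
        apply epi_level L hE ((isPullback_whiskerLeft' (𝟙_ _) q).paste_vert sq)
        rw [leftUnitor_hom, whiskerLeft_snd]
        have e : (𝟙_ _ ◁ q) ≫ (η[G] ▷ Q) = lift (1 : 𝟙_ _ ⊗ (G ⊗ SGA7.pt (K := k) E) ⟶ G) (snd _ _ ≫ q) := by
          apply CartesianMonoidalCategory.hom_ext
          · rw [Category.assoc, whiskerRight_fst, whiskerLeft_fst_assoc, lift_fst, Hom.one_def]
            congr 1
          · rw [Category.assoc, whiskerRight_snd, whiskerLeft_snd, lift_snd]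
        rw [← Category.assoc, e, hq, hml, _root_.one_mul, ← hq]
      mul_act := by
        apply epi_level L hE ((isPullback_whiskerLeft' (G ⊗ G) q).paste_vert sq)
        have e1 : ((G ⊗ G) ◁ q) ≫ (μ[G] ▷ Q) =
            lift (fst (G ⊗ G) (G ⊗ SGA7.pt (K := k) E) ≫ fst G G * (fst (G ⊗ G) _ ≫ snd G G)) (snd _ _ ≫ q) := by
          apply CartesianMonoidalCategory.hom_ext
          · rw [Category.assoc, whiskerRight_fst, whiskerLeft_fst_assoc, lift_fst, Hom.mul_def, ← comp_lift_assoc,
              lift_fst_snd, Category.id_comp]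
          · rw [Category.assoc, whiskerRight_snd, whiskerLeft_snd, lift_snd]
        have e2 : ((G ⊗ G) ◁ q) ≫ (α_ G G Q).hom ≫ (G ◁ m) =
            lift (fst (G ⊗ G) (G ⊗ SGA7.pt (K := k) E) ≫ fst G G)
              (lift (fst (G ⊗ G) _ ≫ snd G G) (snd _ _ ≫ q) ≫ m) := by
          apply CartesianMonoidalCategory.hom_ext
          · simp
          · simp only [Category.assoc, whiskerLeft_snd, lift_snd]
            rw [← Category.assoc (α_ G G Q).hom, ← Category.assoc]
            congr 1
            apply CartesianMonoidalCategory.hom_ext <;> simp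
        rw [← Category.assoc, e1, ← Category.assoc (α_ G G Q).hom, ← Category.assoc _ _ m, e2,
          hq, hml, hml, hml, _root_.mul_assoc] }
  -- the unit point
  let u : SGA7.pt (K := k) E ⟶ G ⊗ SGA7.pt (K := k) E := lift 1 (𝟙 _)
  have hur : u ≫ q ≫ r = incl k k' E := by rw [sq.w, lift_snd_assoc, Category.id_comp]
  -- the cartesian square
  have hmr : m ≫ r = snd G Q ≫ r := by
    apply epi_level L hE sqG
    rw [← Category.assoc, hm, Category.assoc, sq.w, ← Category.assoc, lift_snd, whiskerLeft_snd_assoc, sq.w,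
      Category.assoc]
  have cart : IsPullback m (snd G Q) r r := by
    let c : G ⊗ Q ⟶ pullback r r := pullback.lift m (snd G Q) hmr
    let πZ : pullback r r ⟶ SGA7.pt (K := k) k' := pullback.fst r r ≫ r
    let ρ := pullback.fst πZ (incl k k' E)
    let e' := pullback.snd πZ (incl k k' E)
    let ℓ₁ : pullback πZ (incl k k' E) ⟶ G ⊗ SGA7.pt (K := k) E :=
      sq.lift (ρ ≫ pullback.fst r r) e' (by rw [Category.assoc]; exact pullback.condition)
    let ℓ₂ : pullback πZ (incl k k' E) ⟶ G ⊗ SGA7.pt (K := k) E :=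
      sq.lift (ρ ≫ pullback.snd r r) e' (by
        rw [Category.assoc, ← pullback.condition]
        exact pullback.condition)
    let c' : G ⊗ (G ⊗ SGA7.pt (K := k) E) ⟶ pullback πZ (incl k k' E) :=
      pullback.lift ((G ◁ q) ≫ c) (snd G _ ≫ snd G _) (by
        simp only [πZ, c, Category.assoc, pullback.lift_fst_assoc, hmr]
        exact sqG.w)
    let d : pullback πZ (incl k k' E) ⟶ G ⊗ (G ⊗ SGA7.pt (K := k) E) :=
      lift ((ℓ₁ ≫ fst G _) * (ℓ₂ ≫ fst G _)⁻¹) ℓ₂
    have hc1 : c' ≫ ℓ₁ = lift (fst G _ * (snd G _ ≫ fst G _)) (snd G _ ≫ snd G _) := by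
      apply sq.hom_ext
      · rw [Category.assoc, sq.lift_fst, ← Category.assoc, pullback.lift_fst, Category.assoc,
          pullback.lift_fst, hm]
      · rw [Category.assoc, sq.lift_snd, pullback.lift_snd, lift_snd]
    have hc2 : c' ≫ ℓ₂ = snd G _ := by
      apply sq.hom_ext
      · rw [Category.assoc, sq.lift_fst, ← Category.assoc, pullback.lift_fst, Category.assoc,
          pullback.lift_snd, whiskerLeft_snd]
      · rw [Category.assoc, sq.lift_snd, pullback.lift_snd]
    haveI : IsIso c' := ⟨d, by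
      apply CartesianMonoidalCategory.hom_ext
      · simp only [d, Category.assoc, lift_fst, MonObj.comp_mul, GrpObj.comp_inv, reassoc_of% hc1,
          reassoc_of% hc2, Category.id_comp, mul_inv_cancel_right]
      · simp only [d, Category.assoc, lift_snd, hc2, Category.id_comp], by
      apply pullback.hom_ext
      · apply pullback.hom_ext
        · simp only [d, c', c, Category.assoc, pullback.lift_fst, pullback.lift_fst_assoc, Category.id_comp, hm]
          rw [← sq.lift_fst (ρ ≫ pullback.fst r r) e' (by rw [Category.assoc]; exact pullback.condition),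
            ← Category.assoc]
          congr 1
          apply CartesianMonoidalCategory.hom_ext
          · simp [MonObj.comp_mul, ℓ₁]
          · simp [ℓ₁, ℓ₂]
        · simp only [d, c', c, Category.assoc, pullback.lift_fst_assoc, pullback.lift_snd, Category.id_comp,
            whiskerLeft_snd, lift_snd_assoc]
          exact sq.lift_fst _ _ _
      · simp only [d, c', Category.assoc, pullback.lift_snd, Category.id_comp, lift_snd_assoc]
        exact sq.lift_snd _ _ _⟩
    haveI : Smooth (pullback πZ (incl k k' E)).hom := by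
      rw [← Over.w (inv c')]
      infer_instance
    let ΨZ : pullback πZ (incl k k' E) ⟶ pullback πZ (incl k k' E) :=
      pullback.lift ρ (e' ≫ frM k k' E) (by rw [Category.assoc, frM_inclBase]; exact pullback.condition)
    have hΨ1 : ΨZ ≫ ℓ₁ = ℓ₁ ≫ Φ := by
      apply sq.hom_ext
      · rw [Category.assoc, sq.lift_fst, ← Category.assoc, pullback.lift_fst, Category.assoc, hΦq, sq.lift_fst]
      · rw [Category.assoc, sq.lift_snd, pullback.lift_snd, Category.assoc, hΦs, ← Category.assoc, sq.lift_snd]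
    have hΨ2 : ΨZ ≫ ℓ₂ = ℓ₂ ≫ Φ := by
      apply sq.hom_ext
      · rw [Category.assoc, sq.lift_fst, ← Category.assoc, pullback.lift_fst, Category.assoc, hΦq, sq.lift_fst]
      · rw [Category.assoc, sq.lift_snd, pullback.lift_snd, Category.assoc, hΦs, ← Category.assoc, sq.lift_snd]
    obtain ⟨j, hj, -⟩ := existsUnique_desc_level L hE (IsPullback.of_hasPullback πZ (incl k k' E)) ΨZ
      (pullback.lift_fst _ _ _) (pullback.lift_snd _ _ _)
      (lift ((ℓ₁ ≫ fst G _) * (ℓ₂ ≫ fst G _)⁻¹) (ρ ≫ pullback.snd r r)) (by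
        have e1 : ℓ₁ ≫ snd G _ = e' := sq.lift_snd _ _ _
        have e2 : ℓ₂ ≫ snd G _ = e' := sq.lift_snd _ _ _
        rw [comp_lift, MonObj.comp_mul, GrpObj.comp_inv, ← Category.assoc ΨZ ρ, pullback.lift_fst]
        congr 1
        rw [← Category.assoc, hΨ1, ← Category.assoc, hΨ2]
        simp only [hΦ, phi, Category.assoc, lift_fst, MonObj.comp_mul, GrpObj.comp_inv, reassoc_of% e1,
          reassoc_of% e2]
        group)
    have hjd : ρ ≫ j = d ≫ (G ◁ q) := by
      rw [hj]
      apply CartesianMonoidalCategory.hom_ext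
      · simp [d]
      · rw [lift_snd, Category.assoc, whiskerLeft_snd, lift_snd_assoc]
        exact (sq.lift_fst _ _ _).symm
    have hcj : c ≫ j = 𝟙 _ := by
      apply epi_level L hE sqG
      have : c' ≫ ρ = (G ◁ q) ≫ c := pullback.lift_fst _ _ _
      rw [← Category.assoc, ← this, Category.assoc, hjd, ← Category.assoc, Category.comp_id]
      have hcd : c' ≫ d = 𝟙 _ := by
        apply CartesianMonoidalCategory.hom_ext
        · simp only [d, Category.assoc, lift_fst, MonObj.comp_mul, GrpObj.comp_inv, reassoc_of% hc1,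
            reassoc_of% hc2, Category.id_comp, mul_inv_cancel_right]
        · simp only [d, Category.assoc, lift_snd, hc2, Category.id_comp]
      rw [hcd, Category.id_comp]
    have hjc : j ≫ c = 𝟙 _ := by
      apply epi_level L hE (IsPullback.of_hasPullback πZ (incl k k' E))
      show ρ ≫ j ≫ c = ρ ≫ 𝟙 _
      rw [← Category.assoc, hjd, Category.comp_id]
      apply pullback.hom_ext
      · rw [Category.assoc, Category.assoc, pullback.lift_fst, hm, ← Category.assoc]
        rw [← sq.lift_fst (ρ ≫ pullback.fst r r) e' (by rw [Category.assoc]; exact pullback.condition)]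
        congr 1
        apply CartesianMonoidalCategory.hom_ext
        · simp [d, MonObj.comp_mul, ℓ₁]
        · simp [d, ℓ₁, ℓ₂]
      · rw [Category.assoc, Category.assoc, pullback.lift_snd, whiskerLeft_snd, lift_snd_assoc]
        exact sq.lift_fst _ _ _
    exact IsPullback.of_iso_pullback ⟨hmr⟩ ⟨c, j, hcj, hjc⟩ (pullback.lift_fst _ _ _) (pullback.lift_snd _ _ _)
  -- the map to `X`
  obtain ⟨φ, hφ, -⟩ := existsUnique_desc_level L hE sq Φ hΦq hΦs (smulPt aX (fst G _) (snd G _ ≫ ξ)) (by
    rw [comp_smulPt, hΦ, phi, lift_fst, lift_snd_assoc, Category.assoc, hξf, comp_smulPt, ← smulPt_mul,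
      inv_mul_cancel_right])
  have hφl : ∀ {Z : Over (Spec (CommRingCat.of k))} (g : Z ⟶ G) (e : Z ⟶ SGA7.pt (K := k) E),
      lift g e ≫ q ≫ φ = smulPt aX g (e ≫ ξ) := fun g e => by
    rw [hφ, comp_smulPt, lift_fst, lift_snd_assoc]
  have heqv : m ≫ φ = (G ◁ φ) ≫ aX.act := by
    apply epi_level L hE sqG
    rw [← Category.assoc, hm, Category.assoc, hφl, ← Category.assoc, ← MonoidalCategory.whiskerLeft_comp, hφ,
      whiskerLeft_eq]
    show _ = smulPt aX (fst G _) (snd G _ ≫ smulPt aX _ _)
    rw [comp_smulPt, ← smulPt_mul, Category.assoc]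
  let A : AlgSt.QuotObj K G aX :=
    { base := SGA7.pt (K := k) k'
      P := Q
      act := act
      π := r
      cart := cart
      loc := ⟨Presieve.singleton (incl k k' E).left, hK, fun S' f hf => by
        cases hf
        exact ⟨(u ≫ q).left, congrArg (fun t : SGA7.pt (K := k) E ⟶ SGA7.pt (K := k) k' => t.left)
          ((Category.assoc u q r).trans hur)⟩⟩
      φ := φ
      eqv := heqv }
  refine ⟨A, rfl, ⟨incl k E L ≫ u ≫ q, ?_, ?_⟩, ?_⟩
  · show (incl k E L ≫ u ≫ q) ≫ r ≫ 𝟙 _ = incl k k' L
    rw [Category.comp_id, Category.assoc, Category.assoc, hur, incl_comp]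
  · show frM k k' L ≫ incl k E L ≫ u ≫ q = lift a (incl k E L ≫ u ≫ q) ≫ m
    rw [← Category.assoc, frM_incl, Category.assoc, ← hα]
    have e1 : lift (incl k E L ≫ α) (incl k E L ≫ u ≫ q) = incl k E L ≫ lift α (u ≫ q) := by rw [comp_lift]
    rw [e1, Category.assoc]
    congr 1
    rw [hml α 1 (𝟙 _), _root_.mul_one, ← hΦlift α (𝟙 _), Category.id_comp, Category.id_comp, mul_inv_cancel,
      ← Category.assoc, comp_lift, MonObj.comp_one, Category.comp_id]
  · show (incl k E L ≫ u ≫ q) ≫ φ = x
    rw [Category.assoc, Category.assoc, hφl, Category.id_comp, smulPt_one, hξ]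

end Groth.Agent.Stk19b.Count
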